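import Cfsg.Agent.ConjType.Wrong
import Cfsg.Agent.Solvable.CoprimeAct

/-!
Class sizes `1`, `r ^ a`, `s ^ b` and the product, where the elements of size `r ^ a` are `s`-elements:
the contradiction.
-/

set_option autoImplicit false
set_option linter.unusedSectionVars false
set_option linter.style.haveILetI false

namespace CfsgLib.ConjType

open Subgroup CfsgLib.TwoLargest CfsgLib.CoprimeSizes CfsgLib.ItoSizes

universe u

variable {G : Type u} [Group G] [Finite G] {n m p q s l e r a b : ℕ}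

namespace Wr

variable (h : Wr G n m r a s b) {x x₀ y z t v w g u : G}

include h

theorem isS_W (hx : x ∈ Cfsg.pCore s G) : IsS s x :=
  haveI := Fact.mk h.hs
  isS_of_mem (Solvable.isPGroup_pCore (p := s)) hx

theorem isS_U (hx : x ∈ Cfsg.pCore r G) : IsS r x :=
  h.swap.isS_W hx

theorem U_le_C (hx : x ∈ Cfsg.pCore s G) : Cfsg.pCore r G ≤ C x :=
  fun _ hu => mem_C.2 (h.commute_cores hu hx).symm

/-- An element of size `n * m` centralizing an element of size `n` of `O_s` has the full `r`-part of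
its centralizer inside that of the latter. -/
theorem full_le_C (hx : x ∈ Cfsg.pCore s G) (hxk : k x = n) (ht : IsS s t) (htk : k t = n * m)
    (htx : t ∈ C x) :
    ∃ P : Subgroup G, IsPGroup r P ∧ P ≤ C x ∧ ex r P = ex r (C x) ∧ P ≤ C t ∧
      Cfsg.pCore r G ≤ P := by
  haveI := Fact.mk h.hr
  haveI := Fact.mk h.hs
  obtain ⟨P, -, hPt, hP, hPex⟩ := exists_full (C t) (p := r) IsPGroup.of_bot bot_le
  have hPx : P ≤ C x := fun v hv => by
    have h1 := h.toFour.C_le_of_nm htk (hPt hv) (coprime_isS h.hs h.hr h.ne.symm ht (isS_of_mem hP hv))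
    exact mem_C_comm.1 (h1 (mem_C_comm.1 htx))
  have hex : ex r P = ex r (C x) := by
    have h1 := h.toBase.ex_nm htk
    have h2 := h.toBase.ex_n hxk
    omega
  haveI : (Cfsg.pCore r G).Normal := (Solvable.pCore_spec (p := r) (G := G)).1
  exact ⟨P, hP, hPx, hex, hPt,
    normal_le_full hP hPx hex (Solvable.isPGroup_pCore (p := r)) (h.U_le_C hx)⟩

theorem exists_W_le (hx : x ∈ Cfsg.pCore s G) (hxk : k x = n) (S : Sylow s G) :
    ∃ y : G, y ∈ Cfsg.pCore s G ∧ k y = n ∧ (S : Subgroup G) ≤ C y := by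
  haveI := Fact.mk h.hs
  obtain ⟨g, hg⟩ := exists_conj_centralized (y := x) (by rw [hxk]; exact h.toBase.swap.r_not_dvd) S
  exact ⟨g * x * g⁻¹, (Solvable.pCore_spec (p := s) (G := G)).1.conj_mem x hx g,
    (k_conj x g).trans hxk, hg⟩

/-- The elements of size `n * m` of `O_s`-type centralize `O_r`. -/
theorem U_le_of_nm (hx : x ∈ Cfsg.pCore s G) (hxk : k x = n) (ht : IsS s t) (htk : k t = n * m) :
    Cfsg.pCore r G ≤ C t := by
  haveI := Fact.mk h.hs
  obtain ⟨S, hS⟩ := exists_sylow_mem ht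
  obtain ⟨y, hy, hyk, hSy⟩ := h.exists_W_le hx hxk S
  obtain ⟨P, -, -, -, hPt, hUP⟩ := h.full_le_C hy hyk ht htk (hSy hS)
  exact hUP.trans hPt

theorem U_or_W (hx : x ∈ Cfsg.pCore s G) (hxk : k x = n) (ht : IsS s t) :
    Cfsg.pCore r G ≤ C t ∨ Cfsg.pCore s G ≤ C t := by
  rcases h.sizes t with e | e | e | e
  · exact Or.inl fun u _ => center_le_C' (mem_center_of_k e) u
  · exact Or.inr (h.W_le_C e)
  · exact absurd (h.hM s t h.hs ht e) h.ne.symm
  · exact Or.inl (h.U_le_of_nm hx hxk ht e)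
where
  center_le_C' {t : G} (hc : t ∈ center G) (u : G) : u ∈ C t :=
    mem_C.2 (Subgroup.mem_center_iff.1 hc u).symm

/-- All `s`-elements centralize `O_s` when `O_r` is not central. -/
theorem all_W (hx : x ∈ Cfsg.pCore s G) (hxk : k x = n) (hU : ¬ Cfsg.pCore r G ≤ center G)
    (ht : IsS s t) : Cfsg.pCore s G ≤ C t := by
  haveI := Fact.mk h.hr
  haveI := Fact.mk h.hs
  haveI : (Cfsg.pCore r G).Normal := (Solvable.pCore_spec (p := r) (G := G)).1
  haveI : (Cfsg.pCore s G).Normal := (Solvable.pCore_spec (p := s) (G := G)).1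
  obtain ⟨S, hS⟩ := exists_sylow_mem ht
  obtain ⟨M₁, hM₁⟩ : ∃ M₁, M₁ = centralizer ((Cfsg.pCore r G : Subgroup G) : Set G) := ⟨_, rfl⟩
  obtain ⟨M₂, hM₂⟩ : ∃ M₂, M₂ = centralizer ((Cfsg.pCore s G : Subgroup G) : Set G) := ⟨_, rfl⟩
  haveI : M₁.Normal := hM₁ ▸ inferInstance
  haveI : M₂.Normal := hM₂ ▸ inferInstance
  have hor : ∀ w ∈ (S : Subgroup G), w ∈ M₁ ∨ w ∈ M₂ := fun w hw => by
    rcases h.U_or_W hx hxk (fact_of_mem_sylow hw) with e | e
    · exact Or.inl (hM₁ ▸ mem_centralizer_iff.2 fun v hv => (mem_C.1 (e hv)).symm)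
    · exact Or.inr (hM₂ ▸ mem_centralizer_iff.2 fun v hv => (mem_C.1 (e hv)).symm)
  by_cases hS2 : (S : Subgroup G) ≤ M₂
  · exact fun v hv => mem_C.2 (mem_centralizer_iff.1 (hM₂ ▸ hS2 hS) v hv).symm
  exfalso
  have hS1 : (S : Subgroup G) ≤ M₁ := by
    obtain ⟨a₀, ha₀, ha₀2⟩ := SetLike.not_le_iff_exists.1 hS2
    intro w hw
    by_contra hw1
    have hw2 := (hor w hw).resolve_left hw1
    have ha1 := (hor a₀ ha₀).resolve_right ha₀2
    rcases hor (a₀ * w) (mul_mem ha₀ hw) with e | e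
    · exact hw1 ((M₁.mul_mem_cancel_left ha1).1 e)
    · exact ha₀2 ((M₂.mul_mem_cancel_right hw2).1 e)
  obtain ⟨v, hv, hvc⟩ := SetLike.not_le_iff_exists.1 hU
  refine h.not_sylow_le (h.isS_U hv) hvc fun w hw => ?_
  obtain ⟨S', hS'⟩ := exists_sylow_mem hw
  obtain ⟨g, hg⟩ := MulAction.exists_smul_eq G S S'
  rw [← hg, Sylow.coe_subgroup_smul] at hS'
  obtain ⟨w', hw', rfl⟩ := hS'
  have h1 : g * w' * g⁻¹ ∈ M₁ := (inferInstance : M₁.Normal).conj_mem w' (hS1 hw') g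
  rw [hM₁, mem_centralizer_iff] at h1
  exact mem_C.2 (h1 v hv)

/-- No central `O_r`. -/
theorem false_of_central (hx : x₀ ∈ Cfsg.pCore s G) (hxk : k x₀ = n)
    (hU : Cfsg.pCore r G ≤ center G) : False := by
  haveI := Fact.mk h.hr
  haveI := Fact.mk h.hs
  haveI hWn : (Cfsg.pCore s G).Normal := (Solvable.pCore_spec (p := s) (G := G)).1
  have hWp : IsPGroup s (Cfsg.pCore s G) := Solvable.isPGroup_pCore (p := s)
  have hUC : ∀ t : G, Cfsg.pCore r G ≤ C t := fun t => hU.trans (center_le_C t)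
  have hnW : ∀ t : G, IsS s t → k t = n → t ∈ Cfsg.pCore s G := fun t ht hk =>
    h.mem_W ht (hUC t) (h.W_le_C hk)
  have hWC : ∀ u : G, IsS r u → k u = m → ¬ Cfsg.pCore s G ≤ C u := fun u hu hk hle =>
    h.toFour.symm.notMem_center hk (hU (h.swap.mem_W hu hle (h.swap.W_le_C hk)))
  have hCu : ∀ u t : G, IsS r u → k u = m → IsS s t → t ∈ C u → t ∈ Cfsg.pCore s G := by
    intro u t hu hk ht htu
    by_cases htc : t ∈ center G
    · exact center_isS_mem_pCore ht htc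
    · exact hnW t ht (h.k_n_of_comm hu hk (hWC u hu hk) ht htu htc)
  obtain ⟨u₀, t₀, hu₀, hu₀k, ht₀u, ht₀, ht₀c⟩ := h.pairM
  have ht₀k := h.k_n_of_comm hu₀ hu₀k (hWC u₀ hu₀ hu₀k) ht₀ ht₀u ht₀c
  have ht₀W := hnW t₀ ht₀ ht₀k
  -- every `s`-element lies in `O_s`
  have hall : ∀ t : G, IsS s t → t ∈ Cfsg.pCore s G := by
    intro t ht
    rcases h.sizes t with e | e | e | e
    · exact center_isS_mem_pCore ht (mem_center_of_k e)
    · exact hnW t ht e
    · exact absurd (h.hM s t h.hs ht e) h.ne.symm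
    obtain ⟨S, hS⟩ := exists_sylow_mem ht
    obtain ⟨g, hg⟩ := exists_conj_centralized (y := t₀)
      (by rw [ht₀k]; exact h.toBase.swap.r_not_dvd) S
    obtain ⟨x, hx'⟩ : ∃ x, x = g * t₀ * g⁻¹ := ⟨_, rfl⟩
    have hxW : x ∈ Cfsg.pCore s G := hx' ▸ hWn.conj_mem t₀ ht₀W g
    have hux : g * u₀ * g⁻¹ ∈ C x := by
      rw [hx', C_conj_eq]
      exact ⟨u₀, mem_C_comm.1 ht₀u, rfl⟩
    have htx : t ∈ C x := hx' ▸ hg hS
    obtain ⟨P, hP, hPx, hPex, hPt, -⟩ := h.full_le_C hxW (hx' ▸ (k_conj t₀ g).trans ht₀k) ht e htx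
    obtain ⟨c, -, hcP⟩ := exists_conj_mem hP hPx hPex (isS_conj hu₀ g) hux
    exact hCu _ t (isS_conj (isS_conj hu₀ g) c) ((k_conj _ c).trans ((k_conj u₀ g).trans hu₀k)) ht
      (mem_C_comm.1 (hPt hcP))
  -- every such element has size `n`
  have halln : ∀ t : G, IsS s t → t ∉ center G → k t = n := by
    intro t ht htc
    rcases h.swap.k_r ht htc with e | e
    · exact e
    exfalso
    obtain ⟨T, -, hTu, hTp, hTex⟩ := exists_full (C u₀) (p := s) IsPGroup.of_bot bot_le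
    have hTt : T ≤ C t := fun t' ht' => by
      by_cases hc : t' ∈ center G
      · exact center_le_C t hc
      have hs' : IsS s t' := isS_of_mem hTp ht'
      have h1 := h.k_n_of_comm hu₀ hu₀k (hWC u₀ hu₀ hu₀k) hs' (hTu ht') hc
      exact mem_C_comm.1 (h.W_le_C h1 (hall t ht))
    have hexT : ex s T = ex s (C t) := by
      have h1 := h.exA hu₀ (h.toFour.symm.notMem_center hu₀k)
      have h2 := h.toBase.swap.ex_nm e
      omega
    have htT : t ∈ T := mem_full hTp hTt hexT ht (self_mem_C t) fun y hy => mem_C.1 (hTt hy)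
    have h1 := h.k_n_of_comm hu₀ hu₀k (hWC u₀ hu₀ hu₀k) ht (hTu htT) htc
    rw [e] at h1
    have hn := h.one_lt_n
    have hm := h.one_lt_m
    nlinarith
  have hWc : ∀ w ∈ Cfsg.pCore s G, ∀ w' ∈ Cfsg.pCore s G, Commute w w' := by
    intro w hw w' hw'
    by_cases hc : w ∈ center G
    · exact (Subgroup.mem_center_iff.1 hc w').symm
    · exact mem_C.1 (h.W_le_C (halln w (h.isS_W hw) hc) hw')
  -- a Sylow `r`-subgroup centralizing an element `u` of size `m`
  obtain ⟨R⟩ : Nonempty (Sylow r G) := inferInstance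
  obtain ⟨g, hg⟩ := exists_conj_centralized (y := u₀) (by rw [hu₀k]; exact h.toBase.r_not_dvd) R
  obtain ⟨u, hu'⟩ : ∃ u, u = g * u₀ * g⁻¹ := ⟨_, rfl⟩
  obtain ⟨α, hα'⟩ : ∃ α, α = g * t₀ * g⁻¹ := ⟨_, rfl⟩
  have hus : IsS r u := hu' ▸ isS_conj hu₀ g
  have huk : k u = m := hu' ▸ (k_conj u₀ g).trans hu₀k
  have hRu : (R : Subgroup G) ≤ C u := hu' ▸ hg
  have huR : u ∈ (R : Subgroup G) := mem_full R.2 le_top
    (by rw [ex_sylow]; simp [ex]) hus (mem_top u) fun y hy => mem_C.1 (hRu hy)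
  have hαk : k α = n := hα' ▸ (k_conj t₀ g).trans ht₀k
  have hαW : α ∈ Cfsg.pCore s G := hα' ▸ hWn.conj_mem t₀ ht₀W g
  have hαu : Commute u α := by
    rw [hu', hα']
    exact (mem_C.1 ht₀u).map (MulAut.conj g).toMonoidHom
  obtain ⟨w, hw, hwu⟩ := SetLike.not_le_iff_exists.1 (hWC u hus huk)
  obtain ⟨β, hβ⟩ : ∃ β, β = w * (u * w * u⁻¹)⁻¹ := ⟨_, rfl⟩
  have hβW : β ∈ Cfsg.pCore s G := hβ ▸ mul_mem hw (inv_mem (hWn.conj_mem w hw u))
  have hβu : β ∉ C u := fun hc => hwu (mem_C.2 (by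
    have hsh : u * w * u⁻¹ = w * β⁻¹ := by
      rw [(hWc w hw _ (inv_mem hβW)).eq, hβ, mul_inv_rev, inv_inv, inv_mul_cancel_right]
    have h1 := fix_of_shift hsh ((mem_C.1 hc).inv_right)
      (coprime_isS h.hs h.hr h.ne.symm (h.isS_W (inv_mem hβW)) hus)
    rw [h1, mul_one] at hsh
    exact mul_inv_eq_iff_eq_mul.1 hsh))
  have hβc : β ∉ center G := fun hc => hβu (center_le_C u hc)
  have hyW : α * β ∈ Cfsg.pCore s G := mul_mem hαW hβW
  have hyc : α * β ∉ center G := fun hc => hβu (by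
    have h1 : α * β ∈ C u := center_le_C u hc
    exact ((C u).mul_mem_cancel_left (mem_C.2 hαu)).1 h1)
  have hkey : C (α * β) ⊓ (R : Subgroup G) ≤ (C α ⊓ C β) ⊓ (R : Subgroup G) := by
    intro c hc
    rw [mem_inf] at hc ⊢
    refine ⟨?_, hc.2⟩
    have hcu : Commute u c := mem_C.1 (hRu hc.2)
    have hci : c * (α * β) * c⁻¹ = α * β := mul_inv_eq_iff_eq_mul.2 (mem_C.1 hc.1).symm.eq
    obtain ⟨ζ, hζ⟩ : ∃ ζ, ζ = α⁻¹ * (c * α * c⁻¹) := ⟨_, rfl⟩
    have hζW : ζ ∈ Cfsg.pCore s G := hζ ▸ mul_mem (inv_mem hαW) (hWn.conj_mem α hαW c)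
    have hζu : Commute u ζ := hζ ▸ hαu.inv_right.mul_right ((hcu.mul_right hαu).mul_right hcu.inv_right)
    have e1 : ζ = β * (c * β * c⁻¹)⁻¹ := by
      rw [hζ, eq_mul_inv_iff_mul_eq, mul_assoc,
        show c * α * c⁻¹ * (c * β * c⁻¹) = c * (α * β) * c⁻¹ by group, hci, inv_mul_cancel_left]
    obtain ⟨w', hw''⟩ : ∃ w', w' = w * (c * w * c⁻¹)⁻¹ := ⟨_, rfl⟩
    have hu1 : u * (c * w * c⁻¹) * u⁻¹ = c * (u * w * u⁻¹) * c⁻¹ := by
      calc u * (c * w * c⁻¹) * u⁻¹ = (u * c) * w * (u * c)⁻¹ := by group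
        _ = (c * u) * w * (c * u)⁻¹ := by rw [hcu.eq]
        _ = _ := by group
    have hsh : u * w' * u⁻¹ = w' * ζ⁻¹ := by
      have e2 : u * w' * u⁻¹ = (u * w * u⁻¹) * (c * (u * w * u⁻¹) * c⁻¹)⁻¹ := by
        rw [← hu1, hw'']; group
      rw [e2, e1, hw'', hβ, show c * (w * (u * w * u⁻¹)⁻¹) * c⁻¹ =
        (c * w * c⁻¹) * (c * (u * w * u⁻¹) * c⁻¹)⁻¹ by group]
      have hq := hWn.conj_mem w hw u
      have key : ∀ p₁ q₁ p₂ q₂ : (Cfsg.pCore s G : Subgroup G),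
          q₁ * q₂⁻¹ = (p₁ * p₂⁻¹) * ((p₁ * q₁⁻¹) * (p₂ * q₂⁻¹)⁻¹)⁻¹ := by
        letI : CommGroup (Cfsg.pCore s G : Subgroup G) :=
          { (inferInstance : Group (Cfsg.pCore s G : Subgroup G)) with
            mul_comm := fun p₁ p₂ => Subtype.ext (hWc p₁ p₁.2 p₂ p₂.2).eq }
        intro p₁ q₁ p₂ q₂
        apply Additive.ofMul.injective
        simp only [ofMul_mul, ofMul_inv]
        abel
      exact congrArg Subtype.val
        (key ⟨w, hw⟩ ⟨_, hq⟩ ⟨_, hWn.conj_mem w hw c⟩ ⟨_, hWn.conj_mem _ hq c⟩)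
    have h1 := fix_of_shift hsh hζu.inv_right
      (coprime_isS h.hs h.hr h.ne.symm (h.isS_W (inv_mem hζW)) hus)
    rw [inv_eq_one] at h1
    refine mem_inf.2 ⟨mem_C.2 (mul_inv_eq_iff_eq_mul.1 ?_).symm, mem_C.2 (mul_inv_eq_iff_eq_mul.1 ?_).symm⟩
    · rw [h1, eq_comm, inv_mul_eq_one] at hζ
      exact hζ.symm
    · rw [h1, eq_comm, mul_inv_eq_one] at e1
      exact e1.symm
  have hexeq : ∀ z : G, k z = n → ex r (C z ⊓ (R : Subgroup G)) + a = (Nat.card G).factorization r :=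
    fun z hz => by rw [ex_inf_sylow (hz.trans h.hn) R]; exact h.toBase.ex_n hz
  have hyk := halln _ (h.isS_W hyW) hyc
  have hle : C (α * β) ⊓ (R : Subgroup G) ≤ C α ⊓ (R : Subgroup G) :=
    hkey.trans (inf_le_inf inf_le_left le_rfl)
  have heq : C (α * β) ⊓ (R : Subgroup G) = C α ⊓ (R : Subgroup G) :=
    eq_of_ex_le hle (R.2.to_le inf_le_right) (by
      have h1 := hexeq _ hyk
      have h2 := hexeq _ hαk
      omega)
  have h3 : u ∈ C (α * β) ⊓ (R : Subgroup G) := heq ▸ mem_inf.2 ⟨mem_C.2 hαu.symm, huR⟩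
  exact hβu (mem_C_comm.1 (mem_inf.1 (mem_inf.1 (hkey h3)).1).2)

theorem false_of_both (hx : x₀ ∈ Cfsg.pCore s G) (hxk : k x₀ = n)
    (hu : u ∈ Cfsg.pCore r G) (huk : k u = m) : False := by
  haveI := Fact.mk h.hr
  haveI := Fact.mk h.hs
  haveI hUn : (Cfsg.pCore r G).Normal := (Solvable.pCore_spec (p := r) (G := G)).1
  haveI hWn : (Cfsg.pCore s G).Normal := (Solvable.pCore_spec (p := s) (G := G)).1
  have hUnc : ¬ Cfsg.pCore r G ≤ center G := fun hle => h.toFour.symm.notMem_center huk (hle hu)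
  have hWnc : ¬ Cfsg.pCore s G ≤ center G := fun hle => h.toFour.notMem_center hxk (hle hx)
  have hS : ∀ t : G, IsS s t → Cfsg.pCore s G ≤ C t := fun t ht => h.all_W hx hxk hUnc ht
  have hR : ∀ y : G, IsS r y → Cfsg.pCore r G ≤ C y := fun y hy => h.swap.all_W hu huk hWnc hy
  -- elements centralizing both cores lie in the product of the cores and the centre
  obtain ⟨F, hF⟩ : ∃ F, F = Cfsg.pCore r G ⊔ Cfsg.pCore s G ⊔ center G := ⟨_, rfl⟩
  have hUF : Cfsg.pCore r G ≤ F := hF ▸ le_sup_left.trans le_sup_left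
  have hWF : Cfsg.pCore s G ≤ F := hF ▸ le_sup_right.trans le_sup_left
  have hZF : center G ≤ F := hF ▸ le_sup_right
  have hmemF : ∀ c : G, Cfsg.pCore r G ≤ C c → Cfsg.pCore s G ≤ C c → c ∈ F := by
    intro c h1 h2
    have hsub : ∀ v ∈ zpowers c, C c ≤ C v := fun v hv => C_le_of_mem_zpowers hv
    exact h.toBase.mem_of_rs hZF
      (fun v hv hvs => hUF (h.swap.mem_W hvs (h2.trans (hsub v hv)) (h1.trans (hsub v hv))))
      (fun v hv hvs => hWF (h.mem_W hvs (h1.trans (hsub v hv)) (h2.trans (hsub v hv))))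
  obtain ⟨R⟩ : Nonempty (Sylow r G) := inferInstance
  obtain ⟨S⟩ : Nonempty (Sylow s G) := inferInstance
  have hUR : Cfsg.pCore r G ≤ (R : Subgroup G) := Fitting.pCore_le_sylow R
  obtain ⟨N, hN⟩ : ∃ N, N = (R : Subgroup G) ⊔ F := ⟨_, rfl⟩
  have hRN : (R : Subgroup G) ≤ N := hN ▸ le_sup_left
  have hFN : F ≤ N := hN ▸ le_sup_right
  haveI hFn : F.Normal := hF ▸ inferInstance
  -- the commutator of an `s`-element and an `r`-element centralizes both cores
  have hcomm : ∀ t y : G, IsS s t → IsS r y → t * y * t⁻¹ * y⁻¹ ∈ F := by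
    intro t y ht hy
    refine hmemF _ (fun v hv => ?_) (fun v hv => ?_)
    · exact mem_C.2 ((mem_C.1 (hR _ (isS_conj hy t) hv)).mul_left
        (mem_C.1 (hR y hy hv)).inv_left)
    · have h1 : ∀ w ∈ Cfsg.pCore s G, t * w * t⁻¹ = w := fun w hw =>
        mul_inv_eq_iff_eq_mul.2 (mem_C.1 (hS t ht hw)).eq
      have h2 : y⁻¹ * v * y ∈ Cfsg.pCore s G := by simpa using hWn.conj_mem v hv y⁻¹
      have h3 : t⁻¹ * (y⁻¹ * v * y) * t = y⁻¹ * v * y := by
        conv_lhs => rw [← h1 _ h2]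
        group
      refine mem_C.2 (mul_inv_eq_iff_eq_mul.1 ?_)
      calc t * y * t⁻¹ * y⁻¹ * v * (t * y * t⁻¹ * y⁻¹)⁻¹
          = t * y * (t⁻¹ * (y⁻¹ * v * y) * t) * y⁻¹ * t⁻¹ := by group
        _ = t * v * t⁻¹ := by rw [h3]; group
        _ = v := h1 v hv
  haveI hNn : N.Normal := by
    have hnorm : normalizer (N : Set G) = ⊤ := by
      rw [← Subgroup.index_eq_one]
      by_contra hne
      obtain ⟨d, hd, hdd⟩ := Nat.exists_prime_and_dvd hne
      haveI := Fact.mk hd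
      by_cases hdr : d = r
      · subst hdr
        exact R.not_dvd_index (hdd.trans (index_dvd_of_le (hRN.trans le_normalizer)))
      by_cases hds : d = s
      · subst hds
        refine S.not_dvd_index (hdd.trans (index_dvd_of_le fun t ht => mem_normalizer_of_conj fun z hz => ?_))
        have hle : N.map (MulAut.conj t).toMonoidHom ≤ N := by
          rw [hN, Subgroup.map_sup]
          refine sup_le ?_ ?_
          · rintro _ ⟨y, hy, rfl⟩
            show t * y * t⁻¹ ∈ _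
            rw [show t * y * t⁻¹ = t * y * t⁻¹ * y⁻¹ * y by group]
            exact mul_mem (mem_sup_right (hcomm t y (fact_of_mem_sylow ht) (fact_of_mem_sylow hy)))
              (mem_sup_left hy)
          · rintro _ ⟨y, hy, rfl⟩
            exact mem_sup_right (hFn.conj_mem y hy t)
        exact hle (mem_map_of_mem _ hz)
      obtain ⟨P⟩ : Nonempty (Sylow d G) := inferInstance
      exact P.not_dvd_index (hdd.trans (index_dvd_of_le fun t ht => centralizer_le_normalizer _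
        (center_le_centralizer _ (h.other_central hd hdr hds (fact_of_mem_sylow ht)))))
    exact normalizer_eq_top_iff.1 hnorm
  -- an `s`-element outside `O_s` normalizing `R`
  obtain ⟨t, htR, hts, htW⟩ : ∃ t, t ∈ normalizer ((R : Subgroup G) : Set G) ∧ IsS s t ∧
      t ∉ Cfsg.pCore s G := by
    by_contra hno
    push Not at hno
    have hle : normalizer ((R : Subgroup G) : Set G) ≤ N := fun g hg =>
      h.toBase.mem_of_rs (hZF.trans hFN) (fun v hv hvs => hRN (le_full R.2 le_top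
          (by rw [ex_sylow]; simp [ex]) (isPGroup_zpowers hvs) le_top
          (zpowers_le.2 ((zpowers_le.2 hg) hv)) (mem_zpowers v)))
        (fun v hv hvs => hFN (hWF (hno v ((zpowers_le.2 hg) hv) hvs)))
    have htop : N = ⊤ := by
      rw [eq_top_iff, ← Sylow.normalizer_sup_eq_top' R hRN]
      exact sup_le hle le_rfl
    obtain ⟨v, hv, hvc⟩ := SetLike.not_le_iff_exists.1 hUnc
    refine hvc (Subgroup.mem_center_iff.2 fun g => ?_)
    have hNv : N ≤ C v := by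
      rw [hN, hF]
      refine sup_le (fun y hy => mem_C.2 (mem_C.1 (hR y (fact_of_mem_sylow hy) hv)).symm)
        (sup_le (sup_le (fun y hy => mem_C.2 (mem_C.1 (hR y (h.isS_U hy) hv)).symm) ?_) (center_le_C v))
      exact fun y hy => mem_C.2 (h.commute_cores hv hy)
    exact (mem_C.1 (hNv (htop.ge (mem_top g)))).symm.eq
  have htU : ¬ Cfsg.pCore r G ≤ C t := fun hle => htW (h.mem_W hts hle (hS t hts))
  -- `R` is covered by `O_r` and the centralizer of `t`
  have hfix : ∀ y ∈ (R : Subgroup G), ∃ c ∈ (R : Subgroup G), Commute t c ∧ y⁻¹ * c ∈ Cfsg.pCore r G := by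
    intro y hy
    have hcop : (Nat.card (zpowers t)).Coprime (Nat.card (R : Subgroup G)) := by
      rw [Nat.card_zpowers, card_eq_ex R.2]
      exact (coprime_of_isS h.hr h.hs h.ne.symm hts).pow_right _
    obtain ⟨c, hc, hcy⟩ := CfsgLib.CoprimeAct.exists_centralizing_mem_coset
      (A := zpowers t) (K := (R : Subgroup G)) (N := Cfsg.pCore r G) (zpowers_le.2 htR) hcop hUR
      (normalizer_eq_top (H := Cfsg.pCore r G) ▸ le_top)
      (Or.inr (by haveI := (Solvable.isPGroup_pCore (p := r) (G := G)).isNilpotent; infer_instance))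
      hy (fun z hz => by
        have hzs : IsS s z := isS_of_dvd hts (orderOf_dvd_of_mem_zpowers hz)
        have hzR : z ∈ normalizer ((R : Subgroup G) : Set G) := (zpowers_le.2 htR) hz
        have hdR : y⁻¹ * (z * y * z⁻¹) ∈ (R : Subgroup G) :=
          mul_mem (inv_mem hy) ((mem_normalizer_iff.1 hzR y).1 hy)
        refine h.swap.mem_W (fact_of_mem_sylow hdR) ?_ (hR _ (fact_of_mem_sylow hdR))
        intro v hv
        have h1 : ∀ w ∈ Cfsg.pCore s G, z * w * z⁻¹ = w := fun w hw =>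
          mul_inv_eq_iff_eq_mul.2 (mem_C.1 (hS z hzs hw)).eq
        have h2 : y * v * y⁻¹ ∈ Cfsg.pCore s G := hWn.conj_mem v hv y
        refine mem_C.2 (mul_inv_eq_iff_eq_mul.1 ?_)
        calc y⁻¹ * (z * y * z⁻¹) * v * (y⁻¹ * (z * y * z⁻¹))⁻¹
            = y⁻¹ * (z * (y * (z⁻¹ * (z * v * z⁻¹) * z) * y⁻¹) * z⁻¹) * y := by rw [h1 v hv]; group
          _ = y⁻¹ * (z * (y * v * y⁻¹) * z⁻¹) * y := by group
          _ = v := by rw [h1 _ h2]; group)
    rw [mem_inf] at hc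
    exact ⟨c, hc.1, (mem_centralizer_iff.1 hc.2 t (mem_zpowers t)), hcy⟩
  have hxt : Commute t x₀ := mem_C.1 (hS t hts hx)
  have htx : IsS s (t * x₀) := by
    refine isS_of_mem ((isPGroup_zpowers hts).to_sup_of_normal_right
      (Solvable.isPGroup_pCore (p := s) (G := G))) (mul_mem_sup (mem_zpowers t) hx)
  have htxW : t * x₀ ∉ Cfsg.pCore s G := fun hm => htW ((Cfsg.pCore s G).mul_mem_cancel_right hx |>.1 hm)
  have htxk : k (t * x₀) = n := by
    rcases h.sizes (t * x₀) with e | e | e | e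
    · exact absurd (center_isS_mem_pCore htx (mem_center_of_k e)) htxW
    · exact e
    · exact absurd (h.hM s _ h.hs htx e) h.ne.symm
    · exact absurd (h.mem_W htx (h.U_le_of_nm hx hxk htx e) (hS _ htx)) htxW
  have hle : C (t * x₀) ⊓ (R : Subgroup G) ≤ C x₀ ⊓ (R : Subgroup G) := by
    intro ρ hρ
    rw [mem_inf] at hρ ⊢
    refine ⟨mem_C.2 ?_, hρ.2⟩
    obtain ⟨c, hcR, hct, hcρ⟩ := hfix ρ hρ.2
    obtain ⟨v, hv'⟩ : ∃ v, v = ρ * c⁻¹ := ⟨_, rfl⟩
    have hv : v ∈ Cfsg.pCore r G := by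
      have h1 := hUn.conj_mem _ (inv_mem hcρ) ρ
      have e : ρ * (ρ⁻¹ * c)⁻¹ * ρ⁻¹ = v := by rw [hv']; group
      rwa [e] at h1
    obtain ⟨x', hx''⟩ : ∃ x', x' = c * x₀ * c⁻¹ := ⟨_, rfl⟩
    have hx'W : x' ∈ Cfsg.pCore s G := hx'' ▸ hWn.conj_mem x₀ hx c
    have hvx : Commute v x' := h.commute_cores hv hx'W
    have hρe : ρ * (t * x₀) * ρ⁻¹ = t * x₀ := mul_inv_eq_iff_eq_mul.2 (mem_C.1 hρ.1).symm.eq
    have e1 : v * t * v⁻¹ * x' = t * x₀ := by
      have e2 : c * t * c⁻¹ = t := mul_inv_eq_iff_eq_mul.2 hct.symm.eq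
      have e3 : v * x' * v⁻¹ = x' := mul_inv_eq_iff_eq_mul.2 hvx.eq
      calc v * t * v⁻¹ * x' = v * (c * t * c⁻¹) * v⁻¹ * (v * x' * v⁻¹) := by rw [e2, e3]
        _ = ρ * (t * x₀) * ρ⁻¹ := by rw [hx'', hv']; group
        _ = t * x₀ := hρe
    have e4 : t⁻¹ * v * t * v⁻¹ = x₀ * x'⁻¹ := by
      rw [eq_mul_inv_iff_mul_eq]
      calc t⁻¹ * v * t * v⁻¹ * x' = t⁻¹ * (v * t * v⁻¹ * x') := by group
        _ = x₀ := by rw [e1, inv_mul_cancel_left]
    have h1 : t⁻¹ * v * t * v⁻¹ ∈ Cfsg.pCore r G := by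
      have := hUn.conj_mem v hv t⁻¹
      rw [inv_inv] at this
      exact mul_mem this (inv_mem hv)
    have h2 : x₀ * x'⁻¹ ∈ Cfsg.pCore s G := mul_mem hx (inv_mem hx'W)
    have h3 : x₀ * x'⁻¹ = 1 := eq_one_of_isS (h.isS_W h2)
      (coprime_of_isS h.hs h.hr h.ne (h.isS_U (e4 ▸ h1)))
    rw [mul_inv_eq_one] at h3
    have h4 : ρ = v * c := by rw [hv', inv_mul_cancel_right]
    have h5 : Commute x₀ c := by
      rw [hx'', eq_comm, mul_inv_eq_iff_eq_mul] at h3
      exact h3.symm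
    rw [h4]
    exact (h3 ▸ hvx).symm.mul_right h5
  have heq : C (t * x₀) ⊓ (R : Subgroup G) = C x₀ ⊓ (R : Subgroup G) := eq_of_ex_le hle
    (R.2.to_le inf_le_right) (by
      rw [ex_inf_sylow (htxk.trans h.hn) R, ex_inf_sylow (hxk.trans h.hn) R]
      have h1 := h.toBase.ex_n htxk
      have h2 := h.toBase.ex_n hxk
      omega)
  refine htU fun v hv => mem_C.2 ?_
  have h1 : v ∈ C (t * x₀) := (mem_inf.1 (heq.ge (mem_inf.2 ⟨h.U_le_C hx hv, hUR hv⟩))).1
  have h2 := (mem_C.1 h1).symm.mul_right (mem_C.1 (h.U_le_C hx hv)).symm.inv_right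
  rw [mul_inv_cancel_right] at h2
  exact h2.symm

theorem false_of_one (hx : x₀ ∈ Cfsg.pCore s G) (hxk : k x₀ = n)
    (hU : ¬ Cfsg.pCore r G ≤ center G) (hno : ∀ u ∈ Cfsg.pCore r G, k u ≠ m) : False := by
  haveI := Fact.mk h.hr
  haveI := Fact.mk h.hs
  haveI hUn : (Cfsg.pCore r G).Normal := (Solvable.pCore_spec (p := r) (G := G)).1
  have hUp : IsPGroup r (Cfsg.pCore r G) := Solvable.isPGroup_pCore (p := r)
  have hS : ∀ t : G, IsS s t → Cfsg.pCore s G ≤ C t := fun t ht => h.all_W hx hxk hU ht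
  have hkU : ∀ v ∈ Cfsg.pCore r G, v ∉ center G → k v = n * m := fun v hv hvc =>
    (h.k_r (h.isS_U hv) hvc).resolve_left (hno v hv)
  have hUcomm : ∀ u ∈ Cfsg.pCore r G, ∀ u' ∈ Cfsg.pCore r G, Commute u u' := fun u hu u' hu' =>
    h.swap.comm_s (h.isS_W hx) (h.toFour.notMem_center hxk) hUp (h.U_le_C hx) hu hu'
  obtain ⟨v₀, hv₀, hv₀c⟩ := SetLike.not_le_iff_exists.1 hU
  have hv₀k := hkU v₀ hv₀ hv₀c
  -- `O_r` is a Sylow subgroup of the centralizer of `v₀`
  have hUex : ex r (Cfsg.pCore r G) + a = (Nat.card G).factorization r := by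
    obtain ⟨P, hUP, hPv, hP, hPex⟩ := exists_full (C v₀) (p := r) hUp
      fun u hu => mem_C.2 (hUcomm v₀ hv₀ u hu)
    have hvC : ∀ w ∈ Cfsg.pCore s G, C v₀ ≤ C w := fun w hw =>
      h.toFour.C_le_of_nm hv₀k (mem_C.2 (h.commute_cores hv₀ hw))
        (coprime_isS h.hr h.hs h.ne (h.isS_U hv₀) (h.isS_W hw))
    have hPx : P ≤ C x₀ := hPv.trans (hvC x₀ hx)
    have hPU : P ≤ Cfsg.pCore r G := fun y hy => h.swap.mem_W (isS_of_mem hP hy)
      (fun w hw => mem_C_comm.1 (hvC w hw (hPv hy)))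
      (fun u hu => mem_C.2 (h.swap.comm_s (h.isS_W hx) (h.toFour.notMem_center hxk) hP hPx hy (hUP hu)))
    have h1 := h.toBase.ex_nm hv₀k
    have h2 := ex_mono r hPU
    have h3 := ex_mono r hUP
    omega
  have hexs : ∀ t : G, IsS s t → t ∉ center G → ex r (C t) = ex r (Cfsg.pCore r G) := fun t ht htc => by
    have h1 := h.swap.exA ht htc
    omega
  -- only elements of `O_r` centralize noncentral elements of `O_s`
  have hW : ∀ w ∈ Cfsg.pCore s G, w ∉ center G → ∀ y : G, IsS r y → y ∈ C w →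
      y ∈ Cfsg.pCore r G := by
    intro w hw hwc y hy hyw
    exact le_full hUp (h.U_le_C hw) (hexs w (h.isS_W hw) hwc).symm (isPGroup_zpowers hy)
      (zpowers_le.2 hyw) (normalizer_eq_top (H := Cfsg.pCore r G) ▸ le_top) (mem_zpowers y)
  -- only elements of `O_s` centralize noncentral elements of `O_r`
  have hUW : ∀ v ∈ Cfsg.pCore r G, v ∉ center G → ∀ t : G, IsS s t → t ∈ C v →
      t ∈ Cfsg.pCore s G := by
    intro v hv hvc t ht htv
    refine h.mem_W ht (fun u hu => ?_) (hS t ht)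
    exact h.toFour.C_le_of_nm (hkU v hv hvc) htv (coprime_isS h.hr h.hs h.ne (h.isS_U hv) ht)
      (mem_C.2 (hUcomm v hv u hu))
  obtain ⟨t, ht, htW⟩ : ∃ t : G, IsS s t ∧ t ∉ Cfsg.pCore s G := by
    by_contra hno'
    push Not at hno'
    exact h.not_sylow_le (h.isS_U hv₀) hv₀c fun t ht => mem_C.2 (h.commute_cores hv₀ (hno' t ht))
  have htc : t ∉ center G := fun hc => htW (center_isS_mem_pCore ht hc)
  obtain ⟨y, hyt, hy, hyc⟩ : ∃ y ∈ C t, IsS r y ∧ y ∉ center G := by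
    refine exists_isS_notMem ?_
    rw [hexs t ht htc]
    exact ex_center_lt (H := Cfsg.pCore r G ⊔ center G) le_sup_right (mem_sup_left hv₀) (h.isS_U hv₀) hv₀c
      |>.trans_le (by
        have h1 : Cfsg.pCore r G ⊔ center G ≤ C v₀ :=
          sup_le (fun u hu => mem_C.2 (hUcomm v₀ hv₀ u hu)) (center_le_C v₀)
        have h2 := ex_mono r h1
        have h3 := h.toBase.ex_nm hv₀k
        omega)
  refine h.count hy hyc ht htc hv₀ hv₀c hx (h.toFour.notMem_center hxk) ?_ ?_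
  · intro t' ht'y ht' ht'c hc
    have h1 : t' ∈ Cfsg.pCore s G := hUW v₀ hv₀ hv₀c t' ht' (mem_C.2 hc.symm)
    have h2 : y ∈ Cfsg.pCore r G := hW t' h1 ht'c y hy (mem_C_comm.1 ht'y)
    exact htW (hUW y h2 hyc t ht (mem_C_comm.1 hyt))
  · intro y' hy't hy' hy'c hc
    have h1 : y' ∈ Cfsg.pCore r G := hW x₀ hx (h.toFour.notMem_center hxk) y' hy' (mem_C.2 hc.symm)
    exact htW (hUW y' h1 hy'c t ht (mem_C_comm.1 hy't))

theorem false_of_core (hx : x₀ ∈ Cfsg.pCore s G) (hxk : k x₀ = n) : False := by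
  by_cases hU : Cfsg.pCore r G ≤ center G
  · exact h.false_of_central hx hxk hU
  by_cases hu : ∃ u ∈ Cfsg.pCore r G, k u = m
  · obtain ⟨u, hu, huk⟩ := hu
    exact h.false_of_both hx hxk hu huk
  push Not at hu
  exact h.false_of_one hx hxk hU hu

theorem absurd_all : False := by
  rcases h.exists_in_core with ⟨x, hx, hxk⟩ | ⟨u, hu, huk⟩
  · exact h.false_of_core hx hxk
  · exact h.swap.false_of_core hu huk

end Wr

end CfsgLib.ConjType
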