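import Cfsg.Agent.ConjType.Cases

/-!
Class sizes `1`, `n`, `m`, `n * m` with coprime `n`, `m`: the group is nilpotent and `n`, `m` are
prime powers.
-/

set_option autoImplicit false
set_option linter.unusedSectionVars false
set_option linter.style.haveILetI false

namespace CfsgLib.ConjType

open Subgroup CfsgLib.TwoLargest CfsgLib.CoprimeSizes CfsgLib.ItoSizes

universe u

variable {G : Type u} [Group G] [Finite G] {n m p q s l e r : ℕ}

/-- `C x` has no noncentral elements for the primes dividing `n`. -/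
def Clean (n : ℕ) (x : G) : Prop :=
  ∀ (e : ℕ) (t : G), e.Prime → e ∣ n → t ∈ C x → IsS e t → t ∈ center G

namespace Four

variable (h : Four G n m) {x u t : G}

include h

theorem of_right {z : G} (hq : q.Prime) (hzs : IsS q z) (hz : k z = m) (hqm : q ∣ m) :
    Group.IsNilpotent G ∧ IsPrimePow n ∧ IsPrimePow m := by
  obtain ⟨p, x, hp, hxs, hx⟩ := h.exists_primary
  obtain ⟨a, ha⟩ := h.right hq hzs hz hqm hp hxs hx
  have ha0 : a ≠ 0 := fun e => by
    have := h.one_lt_n
    rw [ha, e, pow_zero] at this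
    omega
  have hpn : p ∣ n := ha ▸ dvd_pow_self p ha0
  obtain ⟨b, hb⟩ := h.symm.right hp hxs hx hpn hq hzs hz
  have hb0 : b ≠ 0 := fun e => by
    have := h.one_lt_m
    rw [hb, e, pow_zero] at this
    omega
  have hnil : Nil G n m p a q b := by
    refine ⟨⟨h, hp, hq, ha, hb⟩, fun p' x' hp' hxs' hx' => ?_, fun q' z' hq' hzs' hz' => ?_⟩
    · obtain ⟨j, hj⟩ := h.right hq hzs hz hqm hp' hxs' hx'
      exact ((Nat.prime_dvd_prime_iff_eq hp hp').1 (hp.dvd_of_dvd_pow (hj ▸ hpn))).symm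
    · obtain ⟨j, hj⟩ := h.symm.right hp hxs hx hpn hq' hzs' hz'
      exact ((Nat.prime_dvd_prime_iff_eq hq hq').1 (hq.dvd_of_dvd_pow (hj ▸ hqm))).symm
  exact ⟨hnil.nilpotent, ha ▸ hp.isPrimePow.pow ha0, hb ▸ hq.isPrimePow.pow hb0⟩

/-- A dirty centralizer forces a prime power. -/
theorem dirty (hwrong : ∀ (p : ℕ) (z : G), p.Prime → IsS p z → k z = m → ¬ p ∣ m)
    (hr : r.Prime) (hu : IsS r u) (huk : k u = m) (he : e.Prime) (hem : e ∣ m) (ht : t ∈ C u)
    (hts : IsS e t) (htc : t ∉ center G) :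
    (∃ a, n = r ^ a) ∧ (C t).relIndex (C u) = n := by
  have her : e ≠ r := fun e' => hwrong r u hr hu huk (e' ▸ hem)
  have hen : ¬ e ∣ n := h.symm.not_dvd_m he hem
  have hrel : (C t).relIndex (C u) = n := (h.rel huk ht (coprime_isS hr he her.symm hu hts)).resolve_left
    fun e' => hwrong e t he hts (h.symm.k_eq_n htc (huk ▸ k_dvd (relIndex_eq_one.1 e'))) hem
  refine ⟨?_, hrel⟩
  obtain ⟨y, hy⟩ : ∃ y : C u, y = ⟨t, ht⟩ := ⟨_, rfl⟩
  have hky : k y = n := by rw [hy, k_subtype]; exact hrel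
  have hyc : y ∉ center (C u) := fun hc => by
    rw [k_of_center hc] at hky
    have := h.one_lt_n
    omega
  have hys : IsS e y := (isS_subtype y).2 (hy ▸ hts)
  refine ⟨_, Nat.eq_prime_pow_of_unique_prime_dvd (by have := h.one_lt_n; omega) fun {d} hd hdn => ?_⟩
  by_contra hdr
  exact regular_no_two hr h.one_lt_n (h.regular_sizes hr hu huk)
    (coprime_of_isS hr he her hys) hyc hd hdn hdr (other_of_dvd hd hdr (hky ▸ hdn))
    (other'_of_isS he her hys hyc) (fun e' => hen (e' ▸ hdn))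

/-- A dirty centralizer for `m` and a clean one for `n` do not coexist. -/
theorem dirty_clean (hwrong : ∀ (p : ℕ) (z : G), p.Prime → IsS p z → k z = m → ¬ p ∣ m)
    (hr : r.Prime) (hu : IsS r u) (huk : k u = m) (he : e.Prime) (hem : e ∣ m) (ht : t ∈ C u)
    (hts : IsS e t) (htc : t ∉ center G) (hx : k x = n) (hclean : Clean n x) : False := by
  obtain ⟨⟨a, ha⟩, hrel⟩ := h.dirty hwrong hr hu huk he hem ht hts htc
  haveI := Fact.mk hr
  have hrn : r ∣ n := by
    refine ha ▸ dvd_pow_self r fun e' => ?_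
    have := h.one_lt_n
    rw [ha, e', pow_zero] at this
    omega
  have h1 : ex r (C x) ≤ ex r (center G) := by
    by_contra hlt
    obtain ⟨v, hv, hvs, hvc⟩ := exists_isS_notMem (not_le.1 hlt)
    exact hvc (hclean r v hr hrn hv hvs)
  have h2 := ex_C_add x r
  have h3 : (C t ⊓ C u).index = n * m := (h.index_inf_C huk).trans (by rw [hrel])
  have h4 := (C t ⊓ C u).card_mul_index
  have hm0 : m ≠ 0 := by have := h.one_lt_m; omega
  have hn0 : n ≠ 0 := by have := h.one_lt_n; omega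
  have h5 := congrArg (fun d : ℕ => d.factorization r) h4
  simp only [h3, Nat.factorization_mul Nat.card_pos.ne' (mul_ne_zero hn0 hm0),
    Nat.factorization_mul hn0 hm0, Finsupp.add_apply,
    Nat.factorization_eq_zero_of_not_dvd (h.not_dvd_m hr hrn)] at h5
  have h6 : ex r (center G) < ex r (C t ⊓ C u) := ex_center_lt
    (le_inf (center_le_C t) (center_le_C u)) (mem_inf.2 ⟨mem_C_comm.1 ht, self_mem_C u⟩) hu
    (h.symm.notMem_center huk)
  rw [hx] at h2
  have e1 : ex r (C t ⊓ C u) = (Nat.card ↥(C t ⊓ C u)).factorization r := rfl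
  omega

theorem ex_le_center_of_clean (hclean : ∀ (p : ℕ) (x : G), p.Prime → IsS p x → k x = n → Clean n x)
    (hp : p.Prime) (hpn : p ∣ n) {g : G} (hg : k g = n * m) : ex p (C g) ≤ ex p (center G) := by
  haveI := Fact.mk hp
  obtain ⟨l, x, hl, hxs, hx⟩ := h.exists_primary
  have h1 := ex_C_add g p
  have h2 := ex_C_add x p
  have hm0 : m ≠ 0 := by have := h.one_lt_m; omega
  have hn0 : n ≠ 0 := by have := h.one_lt_n; omega
  rw [hg, Nat.factorization_mul hn0 hm0, Finsupp.add_apply,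
    Nat.factorization_eq_zero_of_not_dvd (h.not_dvd_m hp hpn)] at h1
  rw [hx] at h2
  by_contra hlt
  obtain ⟨v, hv, hvs, hvc⟩ := exists_isS_notMem (H := C x) (Z := center G) (s := p) (by omega)
  exact hvc (hclean l x hl hxs hx p v hp hpn hv hvs)

theorem main : Group.IsNilpotent G ∧ IsPrimePow n ∧ IsPrimePow m := by
  by_cases hM : ∃ (q : ℕ) (z : G), q.Prime ∧ IsS q z ∧ k z = m ∧ q ∣ m
  · obtain ⟨q, z, hq, hzs, hz, hqm⟩ := hM
    exact h.of_right hq hzs hz hqm
  by_cases hN : ∃ (p : ℕ) (x : G), p.Prime ∧ IsS p x ∧ k x = n ∧ p ∣ n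
  · obtain ⟨p, x, hp, hxs, hx, hpn⟩ := hN
    obtain ⟨h1, h2, h3⟩ := h.symm.of_right hp hxs hx hpn
    exact ⟨h1, h3, h2⟩
  exfalso
  have hwM : ∀ (p : ℕ) (z : G), p.Prime → IsS p z → k z = m → ¬ p ∣ m :=
    fun p z hp hs hk hd => hM ⟨p, z, hp, hs, hk, hd⟩
  have hwN : ∀ (p : ℕ) (x : G), p.Prime → IsS p x → k x = n → ¬ p ∣ n :=
    fun p x hp hs hk hd => hN ⟨p, x, hp, hs, hk, hd⟩
  by_cases hall : ∀ (p : ℕ) (u : G), p.Prime → IsS p u → k u = m → Clean m u
  · have hallN : ∀ (p : ℕ) (x : G), p.Prime → IsS p x → k x = n → Clean n x := by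
      intro p x hp hxs hx e t he hen ht hts
      by_contra htc
      obtain ⟨l, u, hl, hus, hu⟩ := h.symm.exists_primary
      exact h.symm.dirty_clean hwN hp hxs hx he hen ht hts htc hu (hall l u hl hus hu)
    obtain ⟨g, hg⟩ := h.exists_nm
    refine h.nm_notMem_center hg ?_
    have hle : Nat.card (C g) ≤ Nat.card (center G) := by
      refine Nat.le_of_dvd Nat.card_pos ((Nat.factorization_le_iff_dvd Nat.card_pos.ne'
        Nat.card_pos.ne').1 fun p => ?_)
      by_cases hp : p.Prime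
      swap
      · rw [Nat.factorization_eq_zero_of_not_prime _ hp]; exact Nat.zero_le _
      haveI := Fact.mk hp
      by_cases hpn : p ∣ n
      · exact h.ex_le_center_of_clean hallN hp hpn hg
      by_cases hpm : p ∣ m
      · exact h.symm.ex_le_center_of_clean hall hp hpm (hg.trans (mul_comm n m))
      by_contra hlt
      obtain ⟨v, -, hvs, hvc⟩ := exists_isS_notMem (H := C g) (Z := center G) (s := p) (not_le.1 hlt)
      exact hvc (h.mem_center_of_not_dvd hp hpn hpm hvs)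
    exact (Subgroup.eq_of_le_of_card_ge (center_le_C g) hle).ge (self_mem_C g)
  simp only [Clean, not_forall] at hall
  obtain ⟨r, u, hr, hu, huk, e, t, he, hem, ht, hts, htc⟩ := hall
  obtain ⟨⟨a, ha⟩, -⟩ := h.dirty hwM hr hu huk he hem ht hts htc
  -- every element of size `n` is dirty
  have hdirty : ∀ (p : ℕ) (x : G), p.Prime → IsS p x → k x = n →
      ∃ (d : ℕ) (v : G), d.Prime ∧ d ∣ n ∧ v ∈ C x ∧ IsS d v ∧ v ∉ center G := by
    intro p x hp hxs hx
    by_contra hno
    push Not at hno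
    exact h.dirty_clean hwM hr hu huk he hem ht hts htc hx
      fun d v hd hdn hv hvs => hno d v hd hdn hv hvs
  obtain ⟨s, x, hs, hxs, hx⟩ := h.exists_primary
  obtain ⟨d, v, hd, hdn, hv, hvs, hvc⟩ := hdirty s x hs hxs hx
  obtain ⟨⟨b, hb⟩, -⟩ := h.symm.dirty hwN hs hxs hx hd hdn hv hvs hvc
  have heq : ∀ {p l c N : ℕ}, p.Prime → l.Prime → p ∣ N → N = l ^ c → p = l := fun hp hl hd hN =>
    (Nat.prime_dvd_prime_iff_eq hp hl).1 (hp.dvd_of_dvd_pow (hN ▸ hd))
  have hes : e = s := heq he hs hem hb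
  have hdr : d = r := heq hd hr hdn ha
  have hwr : Wr G n m r a s b := by
    refine ⟨⟨h, hr, hs, ha, hb⟩, fun p x' hp hps hk => ?_, fun p z hp hps hk => ?_,
      ⟨u, t, hu, huk, ht, hes ▸ hts, htc⟩, ⟨x, v, hxs, hx, hv, hdr ▸ hvs, hvc⟩⟩
    · exact heq hp hs ((h.prime_cases hp hps (h.notMem_center hk)).resolve_left (hwN p x' hp hps hk)) hb
    · exact heq hp hr ((h.prime_cases hp hps (h.symm.notMem_center hk)).resolve_right (hwM p z hp hps hk)) ha
  exact hwr.absurd_all

end Four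

end CfsgLib.ConjType
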