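import Cfsg.Agent.ConjType.Setup

/-!
Class sizes `1`, `n`, `m`, `n * m`: elements whose class size is divisible by their own prime.
-/

set_option autoImplicit false
set_option linter.unusedSectionVars false
set_option linter.style.haveILetI false

namespace CfsgLib.ConjType

open Subgroup CfsgLib.TwoLargest CfsgLib.CoprimeSizes CfsgLib.ItoSizes

universe u

variable {G : Type u} [Group G] [Finite G] {n m p q s l e r a b : ℕ}

namespace Four

variable (h : Four G n m) {x z : G}

include h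

/-- The regular class sizes in the centralizer of an element of size `m`. -/
theorem regular_sizes (hq : q.Prime) (hzs : IsS q z) (hz : k z = m) (y : C z)
    (hy : (orderOf y).Coprime q) (hyc : y ∉ center (C z)) : k y = n := by
  have hco : (orderOf z).Coprime (orderOf (y : G)) :=
    coprime_orders hzs (by rwa [Subgroup.orderOf_coe])
  rw [k_subtype]
  rcases h.rel hz y.2 hco with e | e
  · exact absurd (mem_center_of_k ((k_subtype y).trans e)) hyc
  · exact e

/-- If some element of size `m` has a prime dividing `m`, each prime power element of size `n` has a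
prime whose power is `n`. -/
theorem right {z₀ : G} (hq : q.Prime) (hzs₀ : IsS q z₀) (hz₀ : k z₀ = m) (hqm : q ∣ m)
    (hp : p.Prime) (hxs : IsS p x) (hx : k x = n) : ∃ j, n = p ^ j := by
  haveI := Fact.mk hq
  have hqn : ¬ q ∣ n := h.symm.not_dvd_m hq hqm
  obtain ⟨g, hg⟩ := h.symm.exists_conj_mem_C (z := x) hq hx hqn hzs₀
  -- replace `z₀` by a conjugate commuting with `x`
  obtain ⟨z, hzs, hz, hxz⟩ : ∃ z : G, IsS q z ∧ k z = m ∧ x ∈ C z := by
    refine ⟨g⁻¹ * z₀ * g⁻¹⁻¹, isS_conj hzs₀ _, (k_conj z₀ _).trans hz₀, mem_C.2 ?_⟩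
    have := (mem_C.1 hg).map (MulAut.conj g⁻¹).toMonoidHom
    simpa [mul_assoc] using this
  have hreg : ∃ y : C z, (orderOf y).Coprime q ∧ y ∉ center (C z) := by
    by_cases hpq : p = q
    swap
    · refine ⟨⟨x, hxz⟩, ?_, fun hc => ?_⟩
      · rw [Subgroup.orderOf_mk]
        exact coprime_of_isS hq hp hpq hxs
      · have h1 := k_of_center hc
        rw [k_subtype, h.rel_eq_n hx hz hxz (coprime_isS hq hp (Ne.symm hpq) hzs hxs)] at h1
        have := h.one_lt_n
        omega
    subst hpq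
    by_contra hno
    push Not at hno
    obtain ⟨t, ht, htn⟩ := Nat.exists_prime_and_dvd (by have := h.one_lt_n; omega : n ≠ 1)
    haveI := Fact.mk ht
    refine not_dvd_k (p := t) (z := z) (x := x) (by rw [hz]; exact h.not_dvd_m ht htn) ?_ (hx ▸ htn)
    intro v hv hvs
    have htp : t ≠ p := fun e => hqn (e ▸ htn)
    have h1 := hno ⟨v, hv⟩ (by rw [Subgroup.orderOf_mk]; exact coprime_of_isS hq ht htp hvs)
    exact congrArg Subtype.val (Subgroup.mem_center_iff.1 h1 ⟨x, hxz⟩)
  obtain ⟨y, hy, hyc⟩ := hreg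
  have hky : k y = n := h.regular_sizes hq hzs hz y hy hyc
  have huniq : ∀ s t : ℕ, s.Prime → t.Prime → s ∣ n → t ∣ n → s = t := by
    intro s t hs ht hsn htn
    by_contra hne
    have hsq : s ≠ q := fun e => hqn (e ▸ hsn)
    have htq : t ≠ q := fun e => hqn (e ▸ htn)
    exact regular_no_two hq h.one_lt_n (h.regular_sizes hq hzs hz) hy hyc hs hsn hsq
      (other_of_dvd hs hsq (hky ▸ hsn)) (other_of_dvd ht htq (hky ▸ htn)) hne
  obtain ⟨l, hl, hln⟩ := Nat.exists_prime_and_dvd (by have := h.one_lt_n; omega : n ≠ 1)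
  have hnl : n = l ^ n.primeFactorsList.length :=
    Nat.eq_prime_pow_of_unique_prime_dvd (by have := h.one_lt_n; omega)
      fun {d} hd hdn => huniq d l hd hl hdn hln
  by_cases hpl : p = l
  · exact ⟨_, hpl ▸ hnl⟩
  exfalso
  haveI := Fact.mk hl
  have hlq : l ≠ q := fun e => hqn (e ▸ hln)
  refine not_dvd_k (p := l) (z := z) (x := x) (by rw [hz]; exact h.not_dvd_m hl hln) ?_ (hx ▸ hln)
  intro v hv hvs
  have hall : ∀ w : C z, IsS l w → ∃ j, k w = l ^ j := fun w hw => by
    rw [k_subtype]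
    rcases h.rel hz w.2 (coprime_isS hq hl hlq.symm hzs ((isS_subtype w).1 hw)) with e | e
    · exact ⟨0, by rw [e, pow_zero]⟩
    · exact ⟨_, e.trans hnl⟩
  exact congrArg Subtype.val (cover hall hp hpl ((isS_subtype (⟨x, hxz⟩ : C z)).2 hxs)
    ((isS_subtype (⟨v, hv⟩ : C z)).2 hvs)).eq

end Four

/-- Both coprime sizes are prime powers. -/
structure Base (G : Type u) [Group G] (n m r a s b : ℕ) : Prop extends Four G n m where
  hr : r.Prime
  hs : s.Prime
  hn : n = r ^ a
  hm : m = s ^ b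

namespace Base

variable (h : Base G n m r a s b) {x y z t v w g : G}

include h

theorem swap : Base G m n s b r a where
  toFour := h.toFour.symm
  hr := h.hs
  hs := h.hr
  hn := h.hm
  hm := h.hn

theorem a_pos : 0 < a := Nat.pos_of_ne_zero fun e => by
  have := h.one_lt_n
  rw [h.hn, e, pow_zero] at this
  omega

theorem r_dvd : r ∣ n := h.hn ▸ dvd_pow_self r h.a_pos.ne'

theorem r_not_dvd : ¬ r ∣ m := h.not_dvd_m h.hr h.r_dvd

theorem ne : r ≠ s := fun e => h.r_not_dvd (e ▸ h.swap.r_dvd)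

theorem other_central (hp : p.Prime) (hpr : p ≠ r) (hps : p ≠ s) (hx : IsS p x) : x ∈ center G :=
  h.mem_center_of_not_dvd hp
    (fun hd => hpr ((Nat.prime_dvd_prime_iff_eq hp h.hr).1 (hp.dvd_of_dvd_pow (h.hn ▸ hd))))
    (fun hd => hps ((Nat.prime_dvd_prime_iff_eq hp h.hs).1 (hp.dvd_of_dvd_pow (h.hm ▸ hd)))) hx

theorem prime_eq (hp : p.Prime) (hx : IsS p x) (hxc : x ∉ center G) : p = r ∨ p = s := by
  by_contra hno
  push Not at hno
  exact hxc (h.other_central hp hno.1 hno.2 hx)

theorem ex_n (hx : k x = n) : ex r (C x) + a = (Nat.card G).factorization r := by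
  have h1 := ex_C_add x r
  rwa [hx, h.hn, h.hr.factorization_pow, Finsupp.single_eq_same] at h1

theorem ex_nm (hx : k x = n * m) : ex r (C x) + a = (Nat.card G).factorization r := by
  have h1 := ex_C_add x r
  have hm0 : m ≠ 0 := by have := h.one_lt_m; omega
  have hn0 : n ≠ 0 := by have := h.one_lt_n; omega
  rw [hx, Nat.factorization_mul hn0 hm0, Finsupp.add_apply,
    Nat.factorization_eq_zero_of_not_dvd h.r_not_dvd] at h1
  have h2 : n.factorization r = a := by rw [h.hn, h.hr.factorization_pow, Finsupp.single_eq_same]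
  omega

/-- An element in all normalizers of cores is generated by the parts for `r` and `s`. -/
theorem mem_of_rs {H : Subgroup G} (hc : center G ≤ H) (hgr : ∀ v, v ∈ zpowers g → IsS r v → v ∈ H)
    (hgs : ∀ v, v ∈ zpowers g → IsS s v → v ∈ H) : g ∈ H :=
  mem_of_parts fun p v hp hv hvs => by
    by_cases hpr : p = r
    · exact hgr v hv (hpr ▸ hvs)
    by_cases hps : p = s
    · exact hgs v hv (hps ▸ hvs)
    exact hc (h.other_central hp hpr hps hvs)

end Base

/-- Every prime power element of size `n` (`m`) has the prime `r` (`s`). -/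
structure Nil (G : Type u) [Group G] (n m r a s b : ℕ) : Prop extends Base G n m r a s b where
  hN : ∀ (p : ℕ) (x : G), p.Prime → IsS p x → k x = n → p = r
  hM : ∀ (p : ℕ) (x : G), p.Prime → IsS p x → k x = m → p = s

namespace Nil

variable (h : Nil G n m r a s b) {x y z t v w g : G}

include h

theorem swap : Nil G m n s b r a where
  toBase := h.toBase.swap
  hN := h.hM
  hM := h.hN

/-- In the centralizer of an element of size `n` the two kinds of elements commute. -/
theorem commute_in_C (hxs : IsS r x) (hx : k x = n) (ht : t ∈ C x) (hts : IsS s t) (hv : v ∈ C x)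
    (hvs : IsS r v) : Commute v t := by
  haveI := Fact.mk h.hr
  haveI := Fact.mk h.hs
  have hall : ∀ w : C x, IsS s w → ∃ j, k w = s ^ j := fun w hw => by
    rw [k_subtype]
    rcases h.toFour.symm.rel hx w.2
      (coprime_isS h.hr h.hs h.ne hxs ((isS_subtype w).1 hw)) with e | e
    · exact ⟨0, by rw [e, pow_zero]⟩
    · exact ⟨b, e.trans h.hm⟩
  exact (cover hall h.hr h.ne ((isS_subtype (⟨v, hv⟩ : C x)).2 hvs)
    ((isS_subtype (⟨t, ht⟩ : C x)).2 hts)).map (C x).subtype

theorem exists_x (S : Sylow s G) : ∃ x : G, IsS r x ∧ k x = n ∧ (S : Subgroup G) ≤ C x := by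
  haveI := Fact.mk h.hs
  obtain ⟨p, x, hp, hxs, hx⟩ := h.exists_primary
  obtain rfl := h.hN p x hp hxs hx
  obtain ⟨g, hg⟩ := exists_conj_centralized (y := x) (by rw [hx]; exact h.toBase.swap.r_not_dvd) S
  exact ⟨g * x * g⁻¹, isS_conj hxs g, (k_conj x g).trans hx, hg⟩

/-- The `r`-core centralizes each Sylow `s`-subgroup with an element of the largest class size. -/
theorem pCore_centralizes {S : Sylow s G} (hw : w ∈ (S : Subgroup G)) (hwk : k w = n * m) :
    Cfsg.pCore r G ≤ centralizer ((S : Subgroup G) : Set G) := by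
  haveI := Fact.mk h.hr
  haveI := Fact.mk h.hs
  obtain ⟨x, hxs, hx, hSx⟩ := h.exists_x S
  obtain ⟨O, hO⟩ : ∃ O, O = Cfsg.pCore r G := ⟨_, rfl⟩
  haveI hOn : O.Normal := hO ▸ (Solvable.pCore_spec (p := r) (G := G)).1
  have hOp : IsPGroup r O := hO ▸ Solvable.isPGroup_pCore (p := r)
  rw [← hO]
  have hxO : x ∈ O := hO ▸ mem_pCore_of_pow hxs (hx.trans h.hn)
  have hws : IsS s w := fact_of_mem_sylow hw
  obtain ⟨L, hL⟩ : ∃ L, L = O ⊓ centralizer ((S : Subgroup G) : Set G) := ⟨_, rfl⟩
  have hxL : x ∈ L := hL ▸ mem_inf.2 ⟨hxO, mem_centralizer_iff.2 fun u hu => (mem_C.1 (hSx hu)).symm.eq⟩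
  -- `L` is abelian
  have hLc : ∀ u ∈ L, ∀ u' ∈ L, Commute u u' := by
    intro u hu u' hu'
    rw [hL, mem_inf] at hu hu'
    have hwu : u ∈ C w := mem_C.2 (mem_centralizer_iff.1 hu.2 w hw)
    have hwu' : u' ∈ C w := mem_C.2 (mem_centralizer_iff.1 hu'.2 w hw)
    exact mem_C.1 (h.toFour.C_le_of_nm hwk hwu
      (coprime_isS h.hs h.hr h.ne.symm hws (isS_of_mem hOp hu.1)) hwu')
  -- the centralizer of `x` in `O` is `L`
  have hCx : ∀ u ∈ O, Commute x u → u ∈ L := fun u hu hc => hL ▸ mem_inf.2 ⟨hu,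
    mem_centralizer_iff.2 fun t ht => (h.commute_in_C hxs hx (hSx ht) (fact_of_mem_sylow ht)
      (mem_C.2 hc) (isS_of_mem hOp hu)).symm.eq⟩
  by_contra hne
  have hLO : L ≤ O := hL ▸ inf_le_left
  obtain ⟨u, huO, hun, huL⟩ := LocalB.exists_mem_normalizer_not_mem hOp hLO
    (fun e => hne (e ▸ hL ▸ inf_le_right))
  refine huL (hL ▸ mem_inf.2 ⟨huO, mem_centralizer_iff.2 fun t ht => ?_⟩)
  obtain ⟨c, hc⟩ : ∃ c, c = u⁻¹ * (t * u * t⁻¹) := ⟨_, rfl⟩
  have hcO : c ∈ O := hc ▸ mul_mem (inv_mem huO) (hOn.conj_mem u huO t)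
  have hcx : Commute x c := by
    have htl : ∀ l ∈ L, t * l * t⁻¹ = l := fun l hl => by
      rw [hL, mem_inf] at hl
      exact mul_inv_eq_iff_eq_mul.2 (mem_centralizer_iff.1 hl.2 t ht)
    have e1 : t * u * t⁻¹ * x * (t * u * t⁻¹)⁻¹ = u * x * u⁻¹ := by
      have h1 := htl x hxL
      have h2 := htl _ ((mem_normalizer_iff.1 hun x).1 hxL)
      calc t * u * t⁻¹ * x * (t * u * t⁻¹)⁻¹ = t * (u * (t⁻¹ * (t * x * t⁻¹) * t) * u⁻¹) * t⁻¹ := by
            rw [h1]; group
        _ = t * (u * x * u⁻¹) * t⁻¹ := by group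
        _ = _ := h2
    have e2 : c * x * c⁻¹ = x := by
      calc c * x * c⁻¹ = u⁻¹ * (t * u * t⁻¹ * x * (t * u * t⁻¹)⁻¹) * u := by rw [hc]; group
        _ = x := by rw [e1]; group
    exact (mul_inv_eq_iff_eq_mul.1 e2).symm
  have hcL : c ∈ L := hCx c hcO hcx
  have htc : Commute t c := by
    rw [hL, mem_inf] at hcL
    exact mem_centralizer_iff.1 hcL.2 t ht
  have h1 := fix_of_shift (t := t) (h := u) (c := c) (by rw [hc]; group) htc
    (coprime_isS h.hr h.hs h.ne (isS_of_mem hOp hcO) (fact_of_mem_sylow ht))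
  rw [hc, inv_mul_eq_one, eq_comm, mul_inv_eq_iff_eq_mul] at h1
  exact h1

/-- The Sylow `s`-subgroups are normal. -/
theorem normal (S : Sylow s G) : (S : Subgroup G).Normal := by
  haveI := Fact.mk h.hr
  haveI := Fact.mk h.hs
  by_cases hw : ∃ w : G, IsS s w ∧ k w = n * m
  swap
  · push Not at hw
    have hle : (S : Subgroup G) ≤ Cfsg.pCore s G := by
      intro t ht
      have hts : IsS s t := fact_of_mem_sylow ht
      rcases h.sizes t with e | e | e | e
      · exact center_isS_mem_pCore hts (mem_center_of_k e)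
      · exact absurd (h.hN s t h.hs hts e) h.ne.symm
      · exact mem_pCore_of_pow hts (e.trans h.hm)
      · exact absurd e (hw t hts)
    rw [le_antisymm hle (Fitting.pCore_le_sylow S)]
    exact (Solvable.pCore_spec (p := s) (G := G)).1
  obtain ⟨w₀, hw₀s, hw₀⟩ := hw
  obtain ⟨x, hxs, hx, hSx⟩ := h.exists_x S
  have hxO : x ∈ Cfsg.pCore r G := mem_pCore_of_pow hxs (hx.trans h.hn)
  -- `x` centralizes every `s`-element
  have hall : ∀ t : G, IsS s t → t ∈ C x := by
    intro t ht
    obtain ⟨S', hS'⟩ := exists_sylow_mem ht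
    obtain ⟨S₀, hS₀⟩ := exists_sylow_mem hw₀s
    obtain ⟨g, hg⟩ := MulAction.exists_smul_eq G S₀ S'
    have hwg : g * w₀ * g⁻¹ ∈ (S' : Subgroup G) := by
      rw [← hg, Sylow.coe_subgroup_smul]
      exact ⟨w₀, hS₀, rfl⟩
    exact mem_C.2 (mem_centralizer_iff.1
      (h.pCore_centralizes hwg ((k_conj w₀ g).trans hw₀) hxO) t hS').symm
  -- the centralizer of `x` normalizes `S`
  obtain ⟨N, hN⟩ : ∃ N, N = normalizer ((S : Subgroup G) : Set G) := ⟨_, rfl⟩
  have hCN : C x ≤ N := by
    rw [← relIndex_eq_one]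
    by_contra hne
    obtain ⟨d, hd, hdd⟩ := Nat.exists_prime_and_dvd hne
    by_cases hds : d = s
    · subst hds
      have h1 : (N ⊓ C x).index = N.relIndex (C x) * k x := by
        rw [← inf_relIndex_right, relIndex_mul_index inf_le_right]
      have h2 : (N ⊓ C x).index ∣ (S : Subgroup G).index :=
        index_dvd_of_le (le_inf (hN ▸ le_normalizer) hSx)
      exact S.not_dvd_index ((hdd.trans (h1 ▸ dvd_mul_right _ _)).trans h2)
    haveI := Fact.mk hd
    refine not_dvd_relIndex (fun v hv hvs => ?_) hdd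
    by_cases hdr : d = r
    · subst hdr
      exact hN ▸ centralizer_le_normalizer _ (mem_centralizer_iff.2 fun t ht =>
        (h.commute_in_C hxs hx (hSx ht) (fact_of_mem_sylow ht) hv hvs).symm.eq)
    · exact hN ▸ centralizer_le_normalizer _ (center_le_centralizer _ (h.other_central hd hdr hds hvs))
  have hle : ∀ t : G, IsS s t → t ∈ (S : Subgroup G) := fun t ht =>
    le_full S.2 le_top (by rw [ex_sylow]; simp [ex]) (isPGroup_zpowers ht) le_top
      (zpowers_le.2 (hN ▸ hCN (hall t ht))) (mem_zpowers t)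
  exact ⟨fun t ht g => hle _ (isS_conj (fact_of_mem_sylow ht) g)⟩

theorem nilpotent : Group.IsNilpotent G := by
  refine ((Group.isNilpotent_of_finite_tfae (G := G)).out 0 3).2 fun p hp P => ?_
  haveI := hp
  by_cases hpr : p = r
  · subst hpr
    exact h.swap.normal P
  by_cases hps : p = s
  · subst hps
    exact h.normal P
  refine ⟨fun t ht g => ?_⟩
  rw [conj_center (h.other_central hp.out hpr hps (fact_of_mem_sylow ht)) g]
  exact ht

end Nil

end CfsgLib.ConjType
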