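import Cfsg.Agent.TwoRegular.Main
import Cfsg.Agent.Solvable.Fitting
import Cfsg.Agent.CubicBlock.Main

/-!
Class sizes `1`, `n`, `m`, `n * m` with `n`, `m` coprime: general facts.
-/

set_option autoImplicit false
set_option linter.unusedSectionVars false
set_option linter.style.haveILetI false

namespace CfsgLib.ConjType

open Subgroup CfsgLib.TwoLargest CfsgLib.CoprimeSizes CfsgLib.ItoSizes

universe u

variable {G : Type u} [Group G] [Finite G] {n m p q s l e : ℕ}

/-! ### Subgroups of prime power order -/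

theorem card_eq_ex [hp : Fact p.Prime] {P : Subgroup G} (hP : IsPGroup p P) :
    Nat.card P = p ^ ex p P := by
  obtain ⟨j, hj⟩ := hP.exists_card_eq
  show _ = p ^ (Nat.card P).factorization p
  rw [hj, hp.out.factorization_pow, Finsupp.single_eq_same]

theorem exists_full [hp : Fact p.Prime] (H : Subgroup G) {P₀ : Subgroup G} (hP₀ : IsPGroup p P₀)
    (hle : P₀ ≤ H) :
    ∃ P : Subgroup G, P₀ ≤ P ∧ P ≤ H ∧ IsPGroup p P ∧ ex p P = ex p H := by
  obtain ⟨S, hS⟩ := (hP₀.comap_subtype (K := H)).exists_le_sylow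
  refine ⟨(S : Subgroup H).map H.subtype, fun x hx => ?_, map_subtype_le _, S.2.map _, ?_⟩
  · exact ⟨⟨x, hle hx⟩, hS (show ((⟨x, hle hx⟩ : H) : G) ∈ P₀ from hx), rfl⟩
  · show (Nat.card ((S : Subgroup H).map H.subtype)).factorization p = _
    rw [card_map_of_injective H.subtype_injective, S.card_eq_multiplicity, hp.out.factorization_pow,
      Finsupp.single_eq_same]

theorem exists_full_of_elem [hp : Fact p.Prime] {H : Subgroup G} {x : G} (hx : IsS p x) (hxH : x ∈ H) :
    ∃ P : Subgroup G, x ∈ P ∧ P ≤ H ∧ IsPGroup p P ∧ ex p P = ex p H := by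
  obtain ⟨P, hP, h⟩ := exists_full H (isPGroup_zpowers hx) (zpowers_le.2 hxH)
  exact ⟨P, hP (mem_zpowers x), h⟩

theorem eq_of_ex_le [hp : Fact p.Prime] {P Q : Subgroup G} (hle : P ≤ Q) (hQ : IsPGroup p Q)
    (hex : ex p Q ≤ ex p P) : P = Q :=
  Subgroup.eq_of_le_of_card_ge hle (by
    rw [card_eq_ex hQ, card_eq_ex (hQ.to_le hle)]
    exact Nat.pow_le_pow_right hp.out.pos hex)

/-- A Sylow subgroup of `H` contains the `p`-subgroups of `H` normalizing it. -/
theorem le_full [hp : Fact p.Prime] {H P W : Subgroup G} (hP : IsPGroup p P) (hPH : P ≤ H)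
    (hex : ex p P = ex p H) (hW : IsPGroup p W) (hWH : W ≤ H)
    (hn : W ≤ normalizer (P : Set G)) : W ≤ P := by
  have hJ : IsPGroup p ↥(W ⊔ P) := hW.to_sup_of_normal_right' hP hn
  rw [eq_of_ex_le (P := P) le_sup_right hJ (hex ▸ ex_mono p (sup_le hWH hPH))]
  exact le_sup_left

theorem mem_full [hp : Fact p.Prime] {H P : Subgroup G} (hP : IsPGroup p P) (hPH : P ≤ H)
    (hex : ex p P = ex p H) {x : G} (hx : IsS p x) (hxH : x ∈ H)
    (hc : ∀ y ∈ P, Commute x y) : x ∈ P := by
  refine le_full hP hPH hex (isPGroup_zpowers hx) (zpowers_le.2 hxH)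
    (zpowers_le.2 ?_) (mem_zpowers x)
  exact centralizer_le_normalizer _ (mem_centralizer_iff.2 fun y hy => (hc y hy).symm.eq)

/-- A normal `p`-subgroup of `H` is in each Sylow subgroup of `H`. -/
theorem normal_le_full [hp : Fact p.Prime] {H P W : Subgroup G} (hP : IsPGroup p P) (hPH : P ≤ H)
    (hex : ex p P = ex p H) (hW : IsPGroup p W) (hWH : W ≤ H) [hWn : W.Normal] : W ≤ P := by
  have hJ : IsPGroup p ↥(P ⊔ W) := hP.to_sup_of_normal_right hW
  rw [eq_of_ex_le (P := P) le_sup_left hJ (hex ▸ ex_mono p (sup_le hPH hWH))]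
  exact le_sup_right

theorem exists_conj_mem [hp : Fact p.Prime] {H P : Subgroup G} (hP : IsPGroup p P) (hPH : P ≤ H)
    (hex : ex p P = ex p H) {x : G} (hx : IsS p x) (hxH : x ∈ H) :
    ∃ c ∈ H, c * x * c⁻¹ ∈ P := by
  obtain ⟨S, hS⟩ := (hP.comap_subtype (K := H)).exists_le_sylow
  have hSP : (S : Subgroup H).map H.subtype = P := by
    refine (eq_of_ex_le ?_ (S.2.map _) (hex ▸ ex_mono p (map_subtype_le _))).symm
    exact fun y hy => ⟨⟨y, hPH hy⟩, hS (show ((⟨y, hPH hy⟩ : H) : G) ∈ P from hy), rfl⟩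
  obtain ⟨R, hR⟩ := ((isPGroup_zpowers hx).comap_subtype (K := H)).exists_le_sylow
  obtain ⟨c, hc⟩ := MulAction.exists_smul_eq H R S
  refine ⟨c, c.2, ?_⟩
  rw [← hSP]
  refine ⟨c * ⟨x, hxH⟩ * c⁻¹, ?_, rfl⟩
  rw [← hc, Sylow.coe_subgroup_smul]
  exact ⟨⟨x, hxH⟩, hR (show ((⟨x, hxH⟩ : H) : G) ∈ zpowers x from mem_zpowers x), rfl⟩

theorem fact_of_mem_sylow {R : Sylow p G} [hp : Fact p.Prime] {x : G} (hx : x ∈ (R : Subgroup G)) :
    IsS p x := isS_of_mem R.2 hx

theorem exists_sylow_mem [hp : Fact p.Prime] {x : G} (hx : IsS p x) :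
    ∃ R : Sylow p G, x ∈ (R : Subgroup G) := by
  obtain ⟨R, hR⟩ := (isPGroup_zpowers hx).exists_le_sylow
  exact ⟨R, hR (mem_zpowers x)⟩

theorem ex_sylow [hp : Fact p.Prime] (R : Sylow p G) :
    ex p (R : Subgroup G) = (Nat.card G).factorization p := by
  show (Nat.card (R : Subgroup G)).factorization p = _
  rw [R.card_eq_multiplicity, hp.out.factorization_pow, Finsupp.single_eq_same]

/-! ### Classes of size prime to `p` -/

theorem ex_C_full {y : G} (hk : ¬ p ∣ k y) : ex p (C y) = (Nat.card G).factorization p := by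
  have h1 := ex_C_add y p
  rw [Nat.factorization_eq_zero_of_not_dvd hk] at h1
  exact h1

theorem exists_conj_centralized [hp : Fact p.Prime] {y : G} (hk : ¬ p ∣ k y) (R : Sylow p G) :
    ∃ g : G, (R : Subgroup G) ≤ C (g * y * g⁻¹) := by
  obtain ⟨P, -, hPC, hP, hex⟩ := exists_full (C y) (p := p) IsPGroup.of_bot bot_le
  obtain ⟨S, hS⟩ := hP.exists_le_sylow
  have hSP : P = (S : Subgroup G) :=
    eq_of_ex_le hS S.2 (by rw [hex, ex_C_full hk, ex_sylow])
  obtain ⟨g, hg⟩ := MulAction.exists_smul_eq G S R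
  refine ⟨g, ?_⟩
  rw [← hg, Sylow.coe_subgroup_smul, C_conj_eq]
  exact Subgroup.map_mono (hSP ▸ hPC)

theorem pCore_le_C [hp : Fact p.Prime] {y : G} (hk : ¬ p ∣ k y) : Cfsg.pCore p G ≤ C y := by
  obtain ⟨P, -, hPC, hP, hex⟩ := exists_full (C y) (p := p) IsPGroup.of_bot bot_le
  obtain ⟨S, hS⟩ := hP.exists_le_sylow
  have hSP : P = (S : Subgroup G) :=
    eq_of_ex_le hS S.2 (by rw [hex, ex_C_full hk, ex_sylow])
  exact (Fitting.pCore_le_sylow S).trans (hSP ▸ hPC)

/-- A class of `p`-power size meets each Sylow `p`-subgroup in a full centralizer. -/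
theorem ex_inf_sylow [hp : Fact p.Prime] {y : G} {a : ℕ} (hk : k y = p ^ a) (R : Sylow p G) :
    ex p (C y ⊓ (R : Subgroup G)) = ex p (C y) := by
  have hco : (C y).index.Coprime (R : Subgroup G).index := by
    show (k y).Coprime _
    rw [hk]
    exact Nat.Coprime.pow_left _ (hp.out.coprime_iff_not_dvd.2 R.not_dvd_index)
  have h1 := CoprimeIndex.index_inf hco
  have h2 := (C y ⊓ (R : Subgroup G)).card_mul_index
  rw [h1, ← (C y).card_mul_index] at h2
  have h3 : Nat.card ↥(C y ⊓ (R : Subgroup G)) * (R : Subgroup G).index = Nat.card (C y) := by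
    refine Nat.eq_of_mul_eq_mul_right (k_pos y) ?_
    rw [← h2]
    ring
  show _ = (Nat.card (C y)).factorization p
  rw [← h3, Nat.factorization_mul Nat.card_pos.ne' Subgroup.index_ne_zero_of_finite, Finsupp.add_apply,
    Nat.factorization_eq_zero_of_not_dvd R.not_dvd_index, add_zero]

theorem exists_mul_sylow [hp : Fact p.Prime] {y : G} {a : ℕ} (hk : k y = p ^ a) (R : Sylow p G)
    (g : G) : ∃ c ∈ C y, ∃ ρ ∈ (R : Subgroup G), g = c * ρ := by
  refine CoprimeIndex.exists_mul_eq ?_ g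
  show (k y).Coprime _
  rw [hk]
  exact Nat.Coprime.pow_left _ (hp.out.coprime_iff_not_dvd.2 R.not_dvd_index)

/-- A `p`-element with a class of `p`-power size lies in `O_p`. -/
theorem mem_pCore_of_pow [hp : Fact p.Prime] {x : G} {a : ℕ} (hx : IsS p x) (hk : k x = p ^ a) :
    x ∈ Cfsg.pCore p G := by
  obtain ⟨R, hR⟩ := exists_sylow_mem hx
  rw [Fitting.pCore_eq_iInf_sylow, mem_iInf]
  intro P
  obtain ⟨g, hg⟩ := MulAction.exists_smul_eq G R P
  obtain ⟨c, hc, ρ, hρ, rfl⟩ := exists_mul_sylow hk R g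
  rw [← hg, Sylow.coe_subgroup_smul]
  refine ⟨ρ⁻¹ * x * ρ, mul_mem (mul_mem (inv_mem hρ) hR) hρ, ?_⟩
  show c * ρ * (ρ⁻¹ * x * ρ) * (c * ρ)⁻¹ = x
  rw [show c * ρ * (ρ⁻¹ * x * ρ) * (c * ρ)⁻¹ = c * x * c⁻¹ by group]
  exact mul_inv_eq_iff_eq_mul.2 (mem_C.1 hc).symm.eq

theorem center_isS_mem_pCore [hp : Fact p.Prime] {z : G} (hz : IsS p z) (hzc : z ∈ center G) :
    z ∈ Cfsg.pCore p G :=
  mem_pCore_of_pow (a := 0) hz (by rw [pow_zero]; exact k_of_center hzc)

/-- If all `l`-elements have classes of `l`-power size, elements of other primes centralize them. -/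
theorem cover [hl : Fact l.Prime] (h : ∀ v : G, IsS l v → ∃ j, k v = l ^ j) {x : G}
    (he : e.Prime) (hel : e ≠ l) (hx : IsS e x) {v : G} (hv : IsS l v) : Commute x v := by
  haveI := Fact.mk he
  obtain ⟨T, hT⟩ := exists_sylow_mem hx
  obtain ⟨O, hO⟩ : ∃ O, O = Cfsg.pCore l G := ⟨_, rfl⟩
  have hmem : ∀ w : G, IsS l w → w ∈ O := fun w hw => by
    obtain ⟨j, hj⟩ := h w hw
    exact hO ▸ mem_pCore_of_pow hw hj
  have hOp : IsPGroup l O := hO ▸ Solvable.isPGroup_pCore (p := l)
  have htop : (centralizer ((T : Subgroup G) : Set G)).subgroupOf O = ⊤ := by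
    refine FGSBSmall.eq_top_of_conj_cover fun w => ?_
    obtain ⟨j, hj⟩ := h (w : G) (isS_of_mem hOp w.2)
    have hne : ¬ e ∣ k (w : G) := fun hd =>
      hel ((Nat.prime_dvd_prime_iff_eq he hl.out).1 (he.dvd_of_dvd_pow (hj ▸ hd)))
    obtain ⟨g, hg⟩ := exists_conj_centralized hne T
    obtain ⟨R⟩ : Nonempty (Sylow l G) := inferInstance
    have hco : (R : Subgroup G).index.Coprime (C (w : G)).index := by
      show _ = _
      exact Nat.Coprime.symm (by
        show (k (w : G)).Coprime _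
        rw [hj]
        exact Nat.Coprime.pow_left _ (hl.out.coprime_iff_not_dvd.2 R.not_dvd_index))
    obtain ⟨ρ, hρ, c, hc, rfl⟩ := CoprimeIndex.exists_mul_eq hco g
    have hρO : ρ ∈ O := hmem ρ (fact_of_mem_sylow hρ)
    refine ⟨⟨ρ, hρO⟩⁻¹, ?_⟩
    rw [mem_subgroupOf, mem_centralizer_iff]
    intro t ht
    have h1 := mem_C.1 (hg ht)
    have e1 : ρ * c * (w : G) * (ρ * c)⁻¹ = ρ * (w : G) * ρ⁻¹ := by
      have := mul_inv_eq_iff_eq_mul.2 (mem_C.1 hc).symm.eq
      calc ρ * c * (w : G) * (ρ * c)⁻¹ = ρ * (c * (w : G) * c⁻¹) * ρ⁻¹ := by group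
        _ = _ := by rw [this]
    rw [e1] at h1
    simpa using h1.symm.eq
  have hvT := htop.ge (mem_top (⟨v, hmem v hv⟩ : O))
  rw [mem_subgroupOf, mem_centralizer_iff] at hvT
  exact hvT x hT

/-- If the `p`-elements of `C z` centralize `x` and `p` does not divide the class size of `z`, it does
not divide the class size of `x`. -/
theorem not_dvd_k [hp : Fact p.Prime] {z x : G} (hz : ¬ p ∣ k z)
    (hc : ∀ v ∈ C z, IsS p v → Commute x v) : ¬ p ∣ k x := fun hd => by
  have h1 : ¬ p ∣ (C x).relIndex (C z) := not_dvd_relIndex fun v hv hvs => mem_C.2 (hc v hv hvs)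
  have h2 : (C x ⊓ C z).index = (C x).relIndex (C z) * k z := by
    rw [← inf_relIndex_right, relIndex_mul_index inf_le_right]
  have h3 : p ∣ (C x).relIndex (C z) * k z := h2 ▸ hd.trans (index_dvd_of_le inf_le_left)
  exact ((hp.out.dvd_mul).1 h3).elim h1 hz

/-- A map shifted by a fixed element of coprime order fixes. -/
theorem fix_of_shift {t h c : G} (hsh : t * h * t⁻¹ = h * c) (hc : Commute t c)
    (hco : (orderOf c).Coprime (orderOf t)) : c = 1 := by
  have key : ∀ i : ℕ, t ^ i * h * (t ^ i)⁻¹ = h * c ^ i := by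
    intro i
    induction i with
    | zero => simp
    | succ i ih =>
      have hci : t * c ^ i * t⁻¹ = c ^ i := mul_inv_eq_iff_eq_mul.2 (hc.pow_right i).eq
      calc t ^ (i + 1) * h * (t ^ (i + 1))⁻¹ = t * (t ^ i * h * (t ^ i)⁻¹) * t⁻¹ := by
            rw [pow_succ']; group
        _ = (t * h * t⁻¹) * (t * c ^ i * t⁻¹) := by rw [ih]; group
        _ = h * c ^ (i + 1) := by rw [hsh, hci, pow_succ', mul_assoc]
  have h1 := key (orderOf t)
  rw [pow_orderOf_eq_one, one_mul, inv_one, mul_one] at h1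
  exact orderOf_eq_one_iff.1 (Nat.eq_one_of_dvd_coprimes hco dvd_rfl
    (orderOf_dvd_of_pow_eq_one (left_eq_mul.1 h1)))

/-! ### Classes inside a centralizer -/

theorem C_subtype {H : Subgroup G} (v : H) : C v = (C (v : G)).subgroupOf H := by
  ext w
  rw [mem_C, mem_subgroupOf, mem_C]
  exact ⟨fun h => h.map H.subtype, fun h => Subtype.ext h.eq⟩

theorem k_subtype {H : Subgroup G} (v : H) : k v = (C (v : G)).relIndex H := by
  show (C v).index = _
  rw [C_subtype]
  rfl

theorem isS_subtype {H : Subgroup G} (v : H) : IsS p v ↔ IsS p (v : G) := by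
  simp only [IsS, Subgroup.orderOf_coe]

/-- A regular class size is divisible by at most one other prime. -/
theorem regular_no_two {H : Type u} [Group H] [Finite H] {r t : ℕ} (hq : q.Prime) (hn : 1 < n)
    (hsz : ∀ y : H, (orderOf y).Coprime q → y ∉ center H → k y = n) {y : H}
    (hy : (orderOf y).Coprime q) (hyc : y ∉ center H) (hs : s.Prime) (hsn : s ∣ n) (hsq : s ≠ q)
    (hr : other' H q r) (ht : other' H q t) (hrt : r ≠ t) : False :=
  (TwoRegular.Two.mk (n := n) hq hsz ⟨r, t, hr, ht, hrt⟩).false_of_dvd hs hsq hsn hy hyc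

theorem other_of_dvd {H : Type u} [Group H] [Finite H] (hs : s.Prime) (hsq : s ≠ q) {y : H}
    (hd : s ∣ k y) : other' H q s := by
  refine ⟨hs, hsq, ?_⟩
  have h1 := ex_C_add y s
  have h2 := ex_mono s (center_le_C y)
  have h3 := hs.factorization_pos_of_dvd (k_pos y).ne' hd
  show (Nat.card (center H)).factorization s < _
  simp only [ex] at h1 h2
  omega

/-- The hypothesis on the class sizes. -/
structure Four (G : Type u) [Group G] (n m : ℕ) : Prop where
  one_lt_n : 1 < n
  one_lt_m : 1 < m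
  cop : n.Coprime m
  sizes : ∀ g : G, k g = 1 ∨ k g = n ∨ k g = m ∨ k g = n * m
  exists_n : ∃ g : G, k g = n
  exists_m : ∃ g : G, k g = m
  exists_nm : ∃ g : G, k g = n * m

theorem Four.symm (h : Four G n m) : Four G m n where
  one_lt_n := h.one_lt_m
  one_lt_m := h.one_lt_n
  cop := h.cop.symm
  sizes g := by rw [mul_comm m n]; rcases h.sizes g with e | e | e | e <;> simp [e]
  exists_n := h.exists_m
  exists_m := h.exists_n
  exists_nm := by rw [mul_comm m n]; exact h.exists_nm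

namespace Four

variable (h : Four G n m) {x z g : G}

include h

theorem not_n_dvd_m : ¬ n ∣ m := fun hd => by
  have h1 := Nat.eq_one_of_dvd_coprimes h.cop dvd_rfl hd
  have := h.one_lt_n
  omega

theorem not_dvd_m (hp : p.Prime) (hpn : p ∣ n) : ¬ p ∣ m := fun hd =>
  hp.ne_one (Nat.eq_one_of_dvd_coprimes h.cop hpn hd)

theorem notMem_center (hk : k x = n) : x ∉ center G := fun hc => by
  have := h.one_lt_n
  rw [k_of_center hc] at hk
  omega

theorem nm_notMem_center (hk : k x = n * m) : x ∉ center G := fun hc => by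
  rw [k_of_center hc] at hk
  have := Nat.eq_one_of_mul_eq_one_left hk.symm
  have := h.one_lt_m
  omega

theorem k_eq_n (hxc : x ∉ center G) (hd : k x ∣ n) : k x = n := by
  rcases h.sizes x with e | e | e | e
  · exact absurd (mem_center_of_k e) hxc
  · exact e
  · exact absurd (e ▸ hd) h.symm.not_n_dvd_m
  · exact absurd ((dvd_mul_left m n).trans (e ▸ hd)) h.symm.not_n_dvd_m

theorem exists_primary : ∃ (p : ℕ) (x : G), p.Prime ∧ IsS p x ∧ k x = n := by
  obtain ⟨g, hg⟩ := h.exists_n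
  obtain ⟨p, a, hp, hag, has, hac⟩ := exists_part g (h.notMem_center hg)
  exact ⟨p, a, hp, has, h.k_eq_n hac (hg ▸ k_dvd (C_le_of_mem_zpowers hag))⟩

/-- The Sylow subgroups for primes dividing no class size are central. -/
theorem mem_center_of_not_dvd (hp : p.Prime) (hpn : ¬ p ∣ n) (hpm : ¬ p ∣ m) (hx : IsS p x) :
    x ∈ center G := by
  haveI := Fact.mk hp
  obtain ⟨R, hR⟩ := exists_sylow_mem hx
  have hne : ∀ g : G, ¬ p ∣ k g := fun g hd => by
    rcases h.sizes g with e | e | e | e <;> rw [e] at hd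
    · exact hp.not_dvd_one hd
    · exact hpn hd
    · exact hpm hd
    · exact ((hp.dvd_mul).1 hd).elim hpn hpm
  have htop : centralizer ((R : Subgroup G) : Set G) = ⊤ := by
    refine FGSBSmall.eq_top_of_conj_cover fun g => ?_
    obtain ⟨c, hc⟩ := exists_conj_centralized (hne g) R
    refine ⟨c⁻¹, mem_centralizer_iff.2 fun t ht => ?_⟩
    rw [inv_inv]
    exact (mem_C.1 (hc ht)).symm.eq
  refine Subgroup.mem_center_iff.2 fun g => ?_
  have := mem_centralizer_iff.1 (htop.ge (mem_top g)) x hR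
  exact this.symm

theorem prime_cases (hp : p.Prime) (hx : IsS p x) (hxc : x ∉ center G) : p ∣ n ∨ p ∣ m := by
  by_contra hno
  push Not at hno
  exact hxc (h.mem_center_of_not_dvd hp hno.1 hno.2 hx)

theorem index_inf_C (hz : k z = m) :
    (C x ⊓ C z).index = (C x).relIndex (C z) * m := by
  rw [← relIndex_mul_index (inf_le_right : C x ⊓ C z ≤ C z), inf_relIndex_right]
  exact congrArg _ hz

/-- The classes in `C z`, `k z = m`, of elements of order prime to `orderOf z`. -/
theorem rel (hz : k z = m) (hxz : x ∈ C z) (hco : (orderOf z).Coprime (orderOf x)) :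
    (C x).relIndex (C z) = 1 ∨ (C x).relIndex (C z) = n := by
  have e1 : C (z * x) = C x ⊓ C z := by rw [C_mul (mem_C.1 hxz) hco, inf_comm]
  have e2 : k (z * x) = (C x).relIndex (C z) * m := by
    show (C (z * x)).index = _
    rw [e1]
    exact h.index_inf_C hz
  have hm := h.one_lt_m
  rcases h.sizes (z * x) with e | e | e | e <;> rw [e] at e2
  · have := Nat.eq_one_of_mul_eq_one_left e2.symm
    omega
  · exact absurd (Dvd.intro_left _ e2.symm) h.symm.not_n_dvd_m
  · refine Or.inl ?_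
    exact (Nat.mul_eq_right (by omega)).1 e2.symm
  · exact Or.inr (Nat.eq_of_mul_eq_mul_right (by omega) e2.symm)

theorem not_C_le (hx : k x = n) (hz : k z = m) : ¬ C z ≤ C x := fun hle =>
  h.not_n_dvd_m (hx ▸ hz ▸ k_dvd hle)

theorem rel_eq_n (hx : k x = n) (hz : k z = m) (hxz : x ∈ C z)
    (hco : (orderOf z).Coprime (orderOf x)) : (C x).relIndex (C z) = n :=
  (h.rel hz hxz hco).resolve_left fun e => h.not_C_le hx hz (relIndex_eq_one.1 e)

/-- A commuting element of coprime order does not cut a smallest centralizer. -/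
theorem C_le_of_nm (hg : k g = n * m) (hxg : x ∈ C g) (hco : (orderOf g).Coprime (orderOf x)) :
    C g ≤ C x := by
  have e1 : C (g * x) = C g ⊓ C x := C_mul (mem_C.1 hxg) hco
  have hle : k (g * x) ≤ k g := by
    rw [hg]
    have hn := h.one_lt_n
    have hm := h.one_lt_m
    rcases h.sizes (g * x) with e | e | e | e <;> rw [e] <;> nlinarith
  exact (C_eq_of_le (a := g * x) (b := g) (e1 ▸ inf_le_left) hle).symm.trans e1 ▸ inf_le_right

/-- A conjugate of an element of size `m` centralizes a given element of an order prime to `m`. -/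
theorem exists_conj_mem_C (hp : p.Prime) (hz : k z = m) (hpm : ¬ p ∣ m) (hx : IsS p x) :
    ∃ g : G, g * z * g⁻¹ ∈ C x := by
  haveI := Fact.mk hp
  obtain ⟨R, hR⟩ := exists_sylow_mem hx
  obtain ⟨g, hg⟩ := exists_conj_centralized (y := z) (by rwa [hz]) R
  exact ⟨g, mem_C_comm.1 (hg hR)⟩

end Four

end CfsgLib.ConjType
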