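import Cfsg.Agent.ConjType.Right
import Cfsg.Agent.ItoSizes.Equal
import Cfsg.Agent.LocalB.CharP
import Cfsg.Agent.Char.Burnside

/-!
Class sizes `1`, `r ^ a`, `s ^ b` and the product, where the elements of size `r ^ a` are `s`-elements:
tools.
-/

set_option autoImplicit false
set_option linter.unusedSectionVars false
set_option linter.style.haveILetI false

namespace CfsgLib.ConjType

open Subgroup CfsgLib.TwoLargest CfsgLib.CoprimeSizes CfsgLib.ItoSizes

universe u

variable {G : Type u} [Group G] [Finite G] {n m p q s l e r a b : ℕ}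

/-- Every prime power element of size `n` (`m`) has the prime `s` (`r`); both types have commuting
noncentral partners. -/
structure Wr (G : Type u) [Group G] (n m r a s b : ℕ) : Prop extends Base G n m r a s b where
  hN : ∀ (p : ℕ) (x : G), p.Prime → IsS p x → k x = n → p = s
  hM : ∀ (p : ℕ) (x : G), p.Prime → IsS p x → k x = m → p = r
  pairM : ∃ u t : G, IsS r u ∧ k u = m ∧ t ∈ C u ∧ IsS s t ∧ t ∉ center G
  pairN : ∃ x v : G, IsS s x ∧ k x = n ∧ v ∈ C x ∧ IsS r v ∧ v ∉ center G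

theorem mem_normalizer_of_conj {H : Subgroup G} {g : G} (h : ∀ x ∈ H, g * x * g⁻¹ ∈ H) :
    g ∈ normalizer (H : Set G) := by
  have e : H.map (MulAut.conj g).toMonoidHom = H := by
    refine eq_of_le_of_card_ge ?_ (le_of_eq (card_map_of_injective (MulAut.conj g).injective).symm)
    rintro _ ⟨x, hx, rfl⟩
    exact h x hx
  refine mem_normalizer_iff.2 fun x => ⟨h x, fun hx => ?_⟩
  rw [← e] at hx
  obtain ⟨y, hy, hyx⟩ := hx
  have e2 : g * y * g⁻¹ = g * x * g⁻¹ := hyx
  rwa [← mul_left_cancel (mul_right_cancel e2)]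

/-- A subgroup acting freely on a point of `U` modulo the centre is smaller than `U` there. -/
theorem count_lt [Fact p.Prime] [Fact q.Prime] (hpq : p ≠ q) {T U : Subgroup G} [U.Normal]
    (hT : IsPGroup p T) (hU : IsPGroup q U) {v : G} (hv : v ∈ U) (hvc : v ∉ center G)
    (hfree : ∀ t ∈ T, t ∉ center G → ¬ Commute t v) :
    Nat.card (T.map (pr : G →* G ⧸ center G)) < Nat.card (U.map (pr : G →* G ⧸ center G)) := by
  classical
  let f : T.map (pr : G →* G ⧸ center G) → U.map (pr : G →* G ⧸ center G) := fun y =>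
    ⟨(y : G ⧸ center G) * pr v * (y : G ⧸ center G)⁻¹, by
      obtain ⟨t, -, ht⟩ := y.2
      refine ⟨t * v * t⁻¹, (inferInstance : U.Normal).conj_mem v hv t, ?_⟩
      rw [map_mul, map_mul, map_inv, ht]⟩
  have hinj : Function.Injective f := by
    intro y₁ y₂ he
    obtain ⟨t₁, ht₁, e₁⟩ := y₁.2
    obtain ⟨t₂, ht₂, e₂⟩ := y₂.2
    have he' : (y₁ : G ⧸ center G) * pr v * (y₁ : G ⧸ center G)⁻¹ =
        (y₂ : G ⧸ center G) * pr v * (y₂ : G ⧸ center G)⁻¹ := congrArg Subtype.val he
    rw [← e₁, ← e₂] at he'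
    have hcm : Commute (pr (t₂⁻¹ * t₁)) (pr v) := by
      show _ * _ = _ * _
      rw [map_mul, map_inv]
      calc (pr t₂)⁻¹ * pr t₁ * pr v = (pr t₂)⁻¹ * (pr t₁ * pr v * (pr t₁)⁻¹) * pr t₁ := by group
        _ = pr v * ((pr t₂)⁻¹ * pr t₁) := by rw [he']; group
    have hm : t₂⁻¹ * t₁ ∈ T := mul_mem (inv_mem ht₂) ht₁
    have h1 : t₂⁻¹ * t₁ ∈ center G := by
      by_contra hc
      exact hfree _ hm hc (commute_of_pr
        (coprime_isS Fact.out Fact.out hpq (isS_of_mem hT hm) (isS_of_mem hU hv)) hcm)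
    exact Subtype.ext (e₁ ▸ e₂ ▸ (pr_eq_iff.2 h1).symm)
  have : Fintype (T.map (pr : G →* G ⧸ center G)) := Fintype.ofFinite _
  have : Fintype (U.map (pr : G →* G ⧸ center G)) := Fintype.ofFinite _
  rw [Nat.card_eq_fintype_card, Nat.card_eq_fintype_card]
  refine Fintype.card_lt_of_injective_of_notMem f hinj (b := (1 : U.map (pr : G →* G ⧸ center G))) ?_
  rintro ⟨y, hy⟩
  have h1 : (y : G ⧸ center G) * pr v * (y : G ⧸ center G)⁻¹ = 1 := congrArg Subtype.val hy
  rw [mul_inv_eq_one] at h1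
  exact hvc (pr_eq_one.1 (mul_eq_left.1 h1))

/-- The image modulo the centre of a Sylow subgroup of a subgroup containing the centre. -/
theorem card_bar [hp : Fact p.Prime] {H P : Subgroup G} (hP : IsPGroup p P) (hPH : P ≤ H)
    (hex : ex p P = ex p H) (hZ : center G ≤ H) :
    Nat.card (P.map (pr : G →* G ⧸ center G)) * p ^ ex p (center G) = p ^ ex p H := by
  obtain ⟨hp', hc⟩ := part_spec (s := p) (A := center G) inferInstance
  have hle : part p (center G) ≤ P ⊓ center G := le_inf (fun z hz => mem_full hP hPH hex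
    (isS_of_mem hp' hz) (hZ (part_le p _ hz))
    (fun y _ => (Subgroup.mem_center_iff.1 (part_le p _ hz) y).symm)) (part_le p _)
  have h2 : Nat.card ↥(P ⊓ center G) = p ^ ex p (center G) := by
    have hPc : IsPGroup p ↥(P ⊓ center G) := hP.to_le inf_le_left
    rw [← eq_of_ex_le hle hPc (le_of_le_of_eq (ex_mono p inf_le_right) (by
      show _ = (Nat.card (part p (center G))).factorization p
      rw [hc, hp.out.factorization_pow, Finsupp.single_eq_same])), hc]
  rw [← h2, card_map_pr, card_eq_ex hP, hex]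

namespace Base

variable (h : Base G n m r a s b)

include h

theorem solvable : Group.IsSolvable G := by
  haveI := Fact.mk h.hr
  haveI := Fact.mk h.hs
  have hpr : ∀ d : ℕ, d.Prime → d ∣ Nat.card (G ⧸ center G) → d = r ∨ d = s := by
    intro d hd hdd
    haveI := Fact.mk hd
    obtain ⟨y, hy⟩ := exists_prime_orderOf_dvd_card' d hdd
    obtain ⟨x, hx, hxy⟩ := exists_lift_isS (y := y) ⟨1, by rw [hy, pow_one]⟩
    by_contra hno
    push Not at hno
    have h1 : y = 1 := hxy ▸ pr_eq_one.2 (h.other_central hd hno.1 hno.2 hx)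
    rw [h1, orderOf_one] at hy
    exact hd.ne_one hy.symm
  obtain ⟨N, hN⟩ : ∃ N, N = Nat.card (G ⧸ center G) := ⟨_, rfl⟩
  have hcard : N = r ^ N.factorization r * s ^ N.factorization s := by
    have hN0 : N ≠ 0 := hN ▸ Nat.card_pos.ne'
    refine Nat.eq_of_factorization_eq hN0
      (mul_ne_zero (pow_pos h.hr.pos _).ne' (pow_pos h.hs.pos _).ne') fun d => ?_
    rw [Nat.factorization_mul (pow_pos h.hr.pos _).ne' (pow_pos h.hs.pos _).ne', Finsupp.add_apply,
      h.hr.factorization_pow, h.hs.factorization_pow]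
    by_cases hdr : d = r
    · subst hdr
      rw [Finsupp.single_eq_same, Finsupp.single_eq_of_ne h.ne, add_zero]
    by_cases hds : d = s
    · subst hds
      rw [Finsupp.single_eq_same, Finsupp.single_eq_of_ne (fun e => hdr e), zero_add]
    rw [Finsupp.single_eq_of_ne hdr, Finsupp.single_eq_of_ne hds, add_zero]
    by_cases hd : d.Prime
    · exact Nat.factorization_eq_zero_of_not_dvd fun hdd =>
        (hpr d hd (hN ▸ hdd)).elim hdr hds
    · exact Nat.factorization_eq_zero_of_not_prime _ hd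
  haveI : Group.IsSolvable (G ⧸ center G) :=
    Char.isSolvable_of_card_eq r s _ _ h.hr h.hs (hN ▸ hcard)
  haveI : Group.IsSolvable (center G) := Group.isSolvable_of_comm fun a b => mul_comm' a b
  exact CentMax.solvable_ext (center G)

end Base

namespace Wr

variable (h : Wr G n m r a s b) {x y z t v w g u : G}

include h

theorem swap : Wr G m n s b r a where
  toBase := h.toBase.swap
  hN := h.hM
  hM := h.hN
  pairM := h.pairN
  pairN := h.pairM

/-- The class size of a noncentral `r`-element is `m` or `n * m`. -/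
theorem k_r (hv : IsS r v) (hvc : v ∉ center G) : k v = m ∨ k v = n * m := by
  rcases h.sizes v with e | e | e | e
  · exact absurd (mem_center_of_k e) hvc
  · exact absurd (h.hN r v h.hr hv e) h.ne
  · exact Or.inl e
  · exact Or.inr e

theorem exA (hv : IsS r v) (hvc : v ∉ center G) :
    ex s (C v) + b = (Nat.card G).factorization s := by
  rcases h.k_r hv hvc with e | e
  · exact h.toBase.swap.ex_n e
  · exact h.toBase.swap.ex_nm (e.trans (mul_comm n m))

theorem ex_eq (hv : IsS r v) (hvc : v ∉ center G) (hw : IsS r w) (hwc : w ∉ center G) :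
    ex s (C v) = ex s (C w) := by
  have h1 := h.exA hv hvc
  have h2 := h.exA hw hwc
  omega

theorem not_sylow_le (hv : IsS r v) (hvc : v ∉ center G) (hle : ∀ t : G, IsS s t → t ∈ C v) :
    False := by
  haveI := Fact.mk h.hs
  obtain ⟨S⟩ : Nonempty (Sylow s G) := inferInstance
  have h1 := ex_mono s (show (S : Subgroup G) ≤ C v from fun t ht => hle t (fact_of_mem_sylow ht))
  have h2 := h.exA hv hvc
  have h3 := h.toBase.swap.a_pos
  rw [ex_sylow] at h1
  omega

/-- The `s`-subgroups of the centralizer of a noncentral `r`-element are commutative. -/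
theorem comm_s (hv : IsS r v) (hvc : v ∉ center G) {T : Subgroup G} (hT : IsPGroup s T)
    (hle : T ≤ C v) {t t' : G} (ht : t ∈ T) (ht' : t' ∈ T) : Commute t t' := by
  haveI := Fact.mk h.hs
  haveI := Fact.mk h.hr
  rcases h.k_r hv hvc with hk | hk
  swap
  · exact mem_C.1 (h.toFour.C_le_of_nm hk (hle ht)
      (coprime_isS h.hr h.hs h.ne hv (isS_of_mem hT ht)) (hle ht'))
  have hcond : CfsgLib.PRegClass.Cond r (C v) := by
    intro y hy
    by_cases hyc : y ∈ center (C v)
    · exact ⟨0, by rw [pow_zero]; exact k_of_center hyc⟩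
    · exact ⟨a, (h.toFour.regular_sizes h.hr hv hk y hy hyc).trans h.hn⟩
  obtain ⟨X, hX, -, j, hj⟩ := (CfsgLib.PRegClass.cond_iff h.hr).1 hcond
  obtain ⟨Q⟩ : Nonempty (Sylow s X) := inferInstance
  obtain ⟨S, hS⟩ := (hT.comap_subtype (K := C v)).exists_le_sylow
  obtain ⟨Q', hQ'⟩ := ((Q.2).map X.subtype).exists_le_sylow
  have hQX : (Q' : Subgroup (C v)) ≤ X := by
    have h1 : (Q : Subgroup X).map X.subtype = (Q' : Subgroup (C v)) := by
      refine eq_of_ex_le hQ' Q'.2 ?_
      rw [ex_sylow]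
      show _ ≤ (Nat.card ((Q : Subgroup X).map X.subtype)).factorization s
      rw [card_map_of_injective X.subtype_injective, Q.card_eq_multiplicity, h.hs.factorization_pow,
        Finsupp.single_eq_same, ← X.card_mul_index, Nat.factorization_mul Nat.card_pos.ne'
          Subgroup.index_ne_zero_of_finite, Finsupp.add_apply, hj, h.hr.factorization_pow,
        Finsupp.single_eq_of_ne h.ne.symm, add_zero]
    exact h1 ▸ map_subtype_le _
  obtain ⟨g, hg⟩ := MulAction.exists_smul_eq (C v) Q' S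
  have hSc : ∀ u ∈ (S : Subgroup (C v)), ∀ u' ∈ (S : Subgroup (C v)), Commute u u' := by
    rw [← hg, Sylow.coe_subgroup_smul]
    rintro _ ⟨u, hu, rfl⟩ _ ⟨u', hu', rfl⟩
    exact (commute_of_isComm hX (hQX hu) (hQX hu')).map _
  exact (hSc ⟨t, hle ht⟩ (hS (show ((⟨t, hle ht⟩ : C v) : G) ∈ T from ht)) ⟨t', hle ht'⟩
    (hS (show ((⟨t', hle ht'⟩ : C v) : G) ∈ T from ht'))).map (C v).subtype

theorem commute_cores (hu : u ∈ Cfsg.pCore r G) (hw : w ∈ Cfsg.pCore s G) : Commute u w := by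
  haveI := Fact.mk h.hr
  haveI := Fact.mk h.hs
  haveI : (Cfsg.pCore r G).Normal := (Solvable.pCore_spec (p := r) (G := G)).1
  haveI : (Cfsg.pCore s G).Normal := (Solvable.pCore_spec (p := s) (G := G)).1
  refine Subgroup.commute_of_normal_of_disjoint (Cfsg.pCore r G) (Cfsg.pCore s G) inferInstance
    inferInstance ?_ u w hu hw
  exact IsPGroup.disjoint_of_ne r s h.ne _ _ (Solvable.isPGroup_pCore (p := r))
    (Solvable.isPGroup_pCore (p := s))

/-- The core for `s` is centralized by the elements of size `n`. -/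
theorem W_le_C (hx : k x = n) : Cfsg.pCore s G ≤ C x := by
  haveI := Fact.mk h.hs
  exact pCore_le_C (by rw [hx]; exact h.toBase.swap.r_not_dvd)

theorem mem_W (ht : IsS s t) (hU : Cfsg.pCore r G ≤ C t) (hW : Cfsg.pCore s G ≤ C t) :
    t ∈ Cfsg.pCore s G := by
  haveI := Fact.mk h.hs
  haveI := h.toBase.solvable
  obtain ⟨j, hj⟩ := ht
  refine CfsgLib.CubicBlock.mem_pCore_of_centralizes ⟨j, by rw [← hj, pow_orderOf_eq_one]⟩
    fun p hp y hy => ?_
  haveI := Fact.mk hp
  by_cases hpr : p = r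
  · exact (mem_C.1 (hU (hpr ▸ hy))).eq
  by_cases hps : p = s
  · exact (mem_C.1 (hW (hps ▸ hy))).eq
  exact Subgroup.mem_center_iff.1
    (h.other_central hp hpr hps (isS_of_mem (Solvable.isPGroup_pCore (p := p)) hy)) t

/-- An element commuting with an element of size `m` outside the centralizer of `O_s` has size `n`. -/
theorem k_n_of_comm (hu : IsS r u) (huk : k u = m) (hW : ¬ Cfsg.pCore s G ≤ C u) (ht : IsS s t)
    (htu : t ∈ C u) (htc : t ∉ center G) : k t = n := by
  haveI := Fact.mk h.hr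
  haveI := Fact.mk h.hs
  have huc : u ∉ center G := h.toFour.symm.notMem_center huk
  rcases h.swap.k_r ht htc with e | e
  · exact e
  exfalso
  obtain ⟨T, htT, hTu, hTp, hTex⟩ := exists_full_of_elem ht htu
  have hTt : T ≤ C t := fun t' ht' => mem_C.2 (h.comm_s hu huc hTp hTu htT ht')
  have hexT : ex s T = ex s (C t) := by
    have h1 := h.exA hu huc
    have h2 := h.toBase.swap.ex_nm e
    omega
  haveI : (Cfsg.pCore s G).Normal := (Solvable.pCore_spec (p := s) (G := G)).1
  refine hW fun w hw => mem_C.2 (CfsgLib.LocalB.commute_of_pxq (w := u) hTp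
    (Solvable.isPGroup_pCore (p := s)) ?_ (coprime_of_isS h.hs h.hr h.ne hu) ?_
    (fun π hπ => (mem_C.1 (hTu hπ)).symm) ?_ w hw)
  · exact normalizer_eq_top (H := Cfsg.pCore s G) ▸ le_top
  · exact normalizer_eq_top (H := Cfsg.pCore s G) ▸ mem_top u
  · intro w hw hwT
    exact mem_C.1 (hTu (mem_full hTp hTt hexT (isS_of_mem (Solvable.isPGroup_pCore (p := s)) hw)
      (mem_C.2 (hwT t htT)) fun y hy => (hwT y hy).symm))

/-- The two numerical inequalities of a pair acting freely on the cores. -/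
theorem count (hy : IsS r y) (hyc : y ∉ center G) (ht : IsS s t) (htc : t ∉ center G)
    {v₀ w₀ : G} (hv₀ : v₀ ∈ Cfsg.pCore r G) (hv₀c : v₀ ∉ center G) (hw₀ : w₀ ∈ Cfsg.pCore s G)
    (hw₀c : w₀ ∉ center G)
    (hT : ∀ t' ∈ C y, IsS s t' → t' ∉ center G → ¬ Commute t' v₀)
    (hB : ∀ y' ∈ C t, IsS r y' → y' ∉ center G → ¬ Commute y' w₀) : False := by
  haveI := Fact.mk h.hr
  haveI := Fact.mk h.hs
  haveI : (Cfsg.pCore r G).Normal := (Solvable.pCore_spec (p := r) (G := G)).1
  haveI : (Cfsg.pCore s G).Normal := (Solvable.pCore_spec (p := s) (G := G)).1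
  have hUp : IsPGroup r (Cfsg.pCore r G) := Solvable.isPGroup_pCore (p := r)
  have hWp : IsPGroup s (Cfsg.pCore s G) := Solvable.isPGroup_pCore (p := s)
  have hv₀s : IsS r v₀ := isS_of_mem hUp hv₀
  have hw₀s : IsS s w₀ := isS_of_mem hWp hw₀
  obtain ⟨T, -, hTy, hTp, hTex⟩ := exists_full (C y) (p := s) IsPGroup.of_bot bot_le
  obtain ⟨B, -, hBt, hBp, hBex⟩ := exists_full (C t) (p := r) IsPGroup.of_bot bot_le
  obtain ⟨T', hWT, hT'v, hT'p, hT'ex⟩ := exists_full (C v₀) (p := s) hWp
    fun w hw => mem_C.2 (h.commute_cores hv₀ hw)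
  obtain ⟨B', hUB, hB'w, hB'p, hB'ex⟩ := exists_full (C w₀) (p := r) hUp
    fun u hu => mem_C.2 (h.commute_cores hu hw₀).symm
  have h1 := count_lt h.ne.symm hTp hUp hv₀ hv₀c
    (fun t' ht' => hT t' (hTy ht') (isS_of_mem hTp ht'))
  have h2 := count_lt h.ne hBp hWp hw₀ hw₀c
    (fun y' hy' => hB y' (hBt hy') (isS_of_mem hBp hy'))
  have h3 : Nat.card ((Cfsg.pCore r G).map (pr : G →* G ⧸ center G)) ≤
      Nat.card (B'.map (pr : G →* G ⧸ center G)) :=
    Nat.le_of_dvd Nat.card_pos (Subgroup.card_dvd_of_le (map_mono hUB))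
  have h4 : Nat.card ((Cfsg.pCore s G).map (pr : G →* G ⧸ center G)) ≤
      Nat.card (T'.map (pr : G →* G ⧸ center G)) :=
    Nat.le_of_dvd Nat.card_pos (Subgroup.card_dvd_of_le (map_mono hWT))
  have h5 : Nat.card (T.map (pr : G →* G ⧸ center G)) = Nat.card (T'.map (pr : G →* G ⧸ center G)) := by
    refine Nat.eq_of_mul_eq_mul_right (pow_pos h.hs.pos (ex s (center G))) ?_
    rw [card_bar hTp hTy hTex (center_le_C y), card_bar hT'p hT'v hT'ex (center_le_C v₀),
      h.ex_eq hy hyc hv₀s hv₀c]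
  have h6 : Nat.card (B.map (pr : G →* G ⧸ center G)) = Nat.card (B'.map (pr : G →* G ⧸ center G)) := by
    refine Nat.eq_of_mul_eq_mul_right (pow_pos h.hr.pos (ex r (center G))) ?_
    rw [card_bar hBp hBt hBex (center_le_C t), card_bar hB'p hB'w hB'ex (center_le_C w₀),
      h.swap.ex_eq ht htc hw₀s hw₀c]
  omega

/-- Some element of size `n` or `m` lies in a core. -/
theorem exists_in_core : (∃ x : G, x ∈ Cfsg.pCore s G ∧ k x = n) ∨
    ∃ u : G, u ∈ Cfsg.pCore r G ∧ k u = m := by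
  haveI := Fact.mk h.hr
  haveI := Fact.mk h.hs
  by_contra hno
  push Not at hno
  obtain ⟨hW, hU⟩ := hno
  have hUC : ∀ x : G, IsS s x → k x = n → ¬ Cfsg.pCore r G ≤ C x := fun x hx hk hle =>
    hW x (h.mem_W hx hle (h.W_le_C hk)) hk
  have hWC : ∀ u : G, IsS r u → k u = m → ¬ Cfsg.pCore s G ≤ C u := fun u hu hk hle =>
    hU u (h.swap.mem_W hu hle (h.swap.W_le_C hk)) hk
  obtain ⟨u, t, hu, huk, htu, ht, htc⟩ := h.pairM
  have htn := h.k_n_of_comm hu huk (hWC u hu huk) ht htu htc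
  obtain ⟨v₀, hv₀, hv₀t⟩ := SetLike.not_le_iff_exists.1 (hUC t ht htn)
  obtain ⟨w₀, hw₀, hw₀u⟩ := SetLike.not_le_iff_exists.1 (hWC u hu huk)
  have hv₀c : v₀ ∉ center G := fun hc => hv₀t (center_le_C t hc)
  have hw₀c : w₀ ∉ center G := fun hc => hw₀u (center_le_C u hc)
  refine h.count hu (h.toFour.symm.notMem_center huk) ht htc hv₀ hv₀c hw₀ hw₀c ?_ ?_
  · intro t' ht'u ht' ht'c hc
    have hk := h.k_n_of_comm hu huk (hWC u hu huk) ht' ht'u ht'c
    exact hU v₀ hv₀ (h.swap.k_n_of_comm ht' hk (hUC t' ht' hk)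
      (isS_of_mem (Solvable.isPGroup_pCore (p := r)) hv₀) (mem_C.2 hc) hv₀c)
  · intro y' hy't hy' hy'c hc
    have hk := h.swap.k_n_of_comm ht htn (hUC t ht htn) hy' hy't hy'c
    exact hW w₀ hw₀ (h.k_n_of_comm hy' hk (hWC y' hy' hk)
      (isS_of_mem (Solvable.isPGroup_pCore (p := s)) hw₀) (mem_C.2 hc) hw₀c)

end Wr

end CfsgLib.ConjType
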